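import Cfsg.Agent.Comp.Mat2

/-!
Centralisers that are central extensions of presented simple groups; coset actions on `Fin n`.
-/

set_option autoImplicit false

namespace Cfsg.Agent.Comp

/-- letters that are defined by words in later letters -/
theorem mem_of_eqs {M : Type*} [Monoid M] {K : Submonoid M} {s : ℕ → M}
    {E : List (List ℕ × List ℕ)} (hE : ∀ e ∈ E, ev s e.1 = ev s e.2) {a L : ℕ}
    (h0 : ∀ x, a ≤ x → x < L → s x ∈ K)
    (h1 : ∀ x < a, ∃ e ∈ E, e.1 = [x] ∧ ∀ y ∈ e.2, x < y ∧ y < L) : ∀ x < L, s x ∈ K := by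
  have : ∀ k x, L - x ≤ k → x < L → s x ∈ K := by
    intro k
    induction k with
    | zero => intro x h h'; omega
    | succ k ih =>
      intro x h h'
      by_cases c : a ≤ x
      · exact h0 x c h'
      · obtain ⟨e, he, e1, e2⟩ := h1 x (by omega)
        have := hE e he
        rw [e1, ev_single] at this
        rw [this]
        exact ev_memM fun y hy => ih y (by have := e2 y hy; omega) (e2 y hy).2
  exact fun x => this _ x le_rfl

theorem ev_shift {M : Type*} [Monoid M] {s t : ℕ → M} {a L : ℕ} (h : ∀ x < L, t (a + x) = s x)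
    {w : List ℕ} (hw : ∀ x ∈ w, x < L) : ev t (w.map (a + ·)) = ev s w := by
  induction w with
  | nil => rfl
  | cons x w ih =>
    rw [List.map_cons, ev_cons, ev_cons, h x (hw x (by simp)), ih fun y hy => hw y (by simp [hy])]

theorem inj_of_simple {G M : Type*} [Group G] [IsSimpleGroup G] [Monoid M] (ρ : G →* M) {g : G}
    (h : ρ g ≠ 1) : Function.Injective ρ := by
  rw [injective_iff_map_eq_one]
  rcases (inferInstance : ρ.ker.Normal).eq_bot_or_eq_top with c | c
  · intro a ha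
    exact Subgroup.mem_bot.mp (c ▸ (show a ∈ ρ.ker from ha))
  · exact absurd (show g ∈ ρ.ker by rw [c]; trivial) h

variable {G₀ : Type} [Group G₀] {H : Type*} [Group H]

theorem IsPres.cenExt [IsSimpleGroup G₀] [Finite H] {s : ℕ → G₀} {L : ℕ} {R R' : List (List ℕ)}
    (h : IsPres s L R) (hR : ∀ w ∈ R, ∀ x ∈ w, x < L) {t : ℕ → H} {p : ℕ} [Fact p.Prime]
    (ht : Sat t R') (h2 : ∀ w ∈ R', ∀ x ∈ w, x < L + 1)
    (h3 : ∀ w ∈ R, ∃ u ∈ R', w = u.filter (· < L)) (hc : ∀ x < L, t x * t L = t L * t x)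
    (hp : t L ^ p = 1) (h1 : t L ≠ 1) {x y : ℕ} (hx : x < L) (hy : y < L)
    (hne : t x * t y ≠ t y * t x)
    (hle : Nat.card (Subgroup.centralizer ({t L} : Set H)) ≤ p * Nat.card G₀) :
    Subgroup.centralizer ({t L} : Set H) = gen t (L + 1) ∧
    Nat.card (Subgroup.center (Subgroup.centralizer ({t L} : Set H))) = p ∧
    (∀ g : Subgroup.centralizer ({t L} : Set H), g ∈ Subgroup.center _ ↔ g.1 ∈ Subgroup.zpowers (t L)) ∧
    Nonempty (G₀ ≃* Subgroup.centralizer ({t L} : Set H) ⧸
      Subgroup.center (Subgroup.centralizer ({t L} : Set H))) := by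
  have hXC : gen t (L + 1) ≤ Subgroup.centralizer ({t L} : Set H) := gen_le.mpr fun z hz =>
    Subgroup.mem_centralizer_singleton_iff.mpr (by
      by_cases c : z = L
      · rw [c]
      · exact hc z (by omega))
  have hi := (gen t (L + 1)).subtype_injective
  have hv : ∀ z < L + 1, ∃ g, (gen t (L + 1)).subtype g = t z := fun z hz => ⟨⟨_, letter_mem_gen hz⟩, rfl⟩
  have hv' : ∀ z < L + 1, (liftS (gen t (L + 1)).subtype t z).1 = t z := fun z hz => liftS_val (hv z hz)
  have hz : liftS (gen t (L + 1)).subtype t L ∈ Subgroup.center _ :=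
    Subgroup.mem_center_iff.mpr fun g => Subtype.ext (by
      rw [Subgroup.coe_mul, Subgroup.coe_mul, hv' L (by omega)]
      exact Subgroup.mem_centralizer_singleton_iff.mp (hXC g.2))
  obtain ⟨e1, e, -⟩ := h.central hR (gen_liftS_top hi (Subgroup.range_subtype _).symm) hz
    (sat_liftS hi hv h2 ht) h2 h3 ⟨_, _, fun c => hne (by
      rw [← hv' x (by omega), ← hv' y (by omega)]; exact congrArg Subtype.val c)⟩
  have e2 : Nat.card (Subgroup.center (gen t (L + 1))) = p := by
    rw [e1]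
    exact card_zpowers_prime (Subtype.ext (by rw [Subgroup.coe_pow, hv' L (by omega), hp]; rfl))
      fun c => h1 (by rw [← hv' L (by omega), c]; rfl)
  have e3 : Subgroup.centralizer ({t L} : Set H) = gen t (L + 1) := by
    refine (Subgroup.eq_of_le_of_card_ge hXC (hle.trans (le_of_eq ?_))).symm
    rw [Subgroup.card_eq_card_quotient_mul_card_subgroup (Subgroup.center (gen t (L + 1))), e2,
      Nat.card_congr e.toEquiv, mul_comm]
  refine ⟨e3, ?_⟩
  rw [e3]
  refine ⟨e2, fun g => ?_, ⟨e⟩⟩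
  rw [e1, ← hv' L (by omega)]
  exact ⟨fun ⟨k, hk⟩ => ⟨k, by rw [← hk]; simp⟩, fun ⟨k, hk⟩ => ⟨k, Subtype.ext (by simpa using hk)⟩⟩

/-- the action on the cosets of a subgroup of a simple group -/
theorem exists_coset_fin {G : Type*} [Group G] [IsSimpleGroup G] (K : Subgroup G) (hK : K ≠ ⊤)
    {n : ℕ} [NeZero n] (hn : K.index = n) :
    ∃ (P : Subgroup (Equiv.Perm (Fin n))) (e : G ≃* P), MulAction.IsPretransitive P (Fin n) ∧
      Nonempty (K ≃* MulAction.stabilizer P (0 : Fin n)) := by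
  have : Finite (G ⧸ K) := Nat.finite_of_card_ne_zero (by rw [← Subgroup.index, hn]; exact NeZero.ne n)
  obtain ⟨f0⟩ : Nonempty (G ⧸ K ≃ Fin n) := Finite.card_eq.mp (by rw [Nat.card_fin]; exact hn)
  let f : G ⧸ K ≃ Fin n := f0.trans (Equiv.swap (f0 ((1 : G) : G ⧸ K)) 0)
  have hf : f ((1 : G) : G ⧸ K) = 0 := by simp [f]
  let φ : G →* Equiv.Perm (Fin n) := f.permCongrHom.toMonoidHom.comp (MulAction.toPermHom G (G ⧸ K))
  have hφ : ∀ g x, φ g (f x) = f (g • x) := fun g x => by simp [φ]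
  have hs : ∀ g, φ g 0 = 0 ↔ g ∈ K := fun g => by
    rw [← hf, hφ, f.apply_eq_iff_eq, MulAction.Quotient.smul_coe, smul_eq_mul, mul_one, eq_comm,
      QuotientGroup.eq]
    simp
  obtain ⟨g0, hg0⟩ : ∃ g, g ∉ K := by
    by_contra c
    exact hK (eq_top_iff.mpr fun g _ => by_contra fun h => c ⟨g, h⟩)
  have hi : Function.Injective φ := inj_of_simple φ (g := g0) fun c => hg0 ((hs g0).mp (by rw [c]; rfl))
  let e := MonoidHom.ofInjective hi
  refine ⟨φ.range, e, ⟨fun a b => ?_⟩, ⟨(e.subgroupMap K).trans (MulEquiv.subgroupCongr ?_)⟩⟩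
  · obtain ⟨g, hg⟩ := MulAction.exists_smul_eq G (f.symm a) (f.symm b)
    refine ⟨⟨φ g, g, rfl⟩, ?_⟩
    show φ g a = b
    rw [← f.apply_symm_apply a, hφ, hg, f.apply_symm_apply]
  · ext g
    obtain ⟨g, rfl⟩ := e.surjective g
    exact (Subgroup.mem_map_iff_mem (f := (e : G →* φ.range)) e.injective).trans (hs g).symm

/-- centralisers of corresponding elements -/
def cenEquiv {G G' : Type*} [Group G] [Group G'] (e : G ≃* G') (t : G) :
    Subgroup.centralizer ({t} : Set G) ≃* Subgroup.centralizer ({e t} : Set G') :=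
  (e.subgroupMap _).trans (MulEquiv.subgroupCongr (by
    ext g
    obtain ⟨g, rfl⟩ := e.surjective g
    refine (Subgroup.mem_map_iff_mem (f := (e : G →* G')) e.injective).trans ?_
    rw [Subgroup.mem_centralizer_singleton_iff, Subgroup.mem_centralizer_singleton_iff,
      ← map_mul, ← map_mul, e.apply_eq_iff_eq]))

end Cfsg.Agent.Comp
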