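import Cfsg.Agent.Comp.SubKit
import Cfsg.Agent.Comp.Mat3
import Cfsg.Agent.Comp.Mat2
import Cfsg.Prelude.Def_Chevalley

/-!
Identification of presented groups with Chevalley groups; primitivity on suborbits.
-/

set_option autoImplicit false

namespace Cfsg.Agent.Comp
open Cfsg.Lie

theorem xMat_map (D : ChevalleyDatum) {K F : Type*} [Field K] [Field F] (ι : K →+* F)
    (r : Fin D.nroots) (t : K) : ι.mapMatrix (D.xMat K r t) = D.xMat F r (ι t) := by
  ext i j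
  rcases i with i | i <;> rcases j with j | j <;>
    simp only [RingHom.mapMatrix_apply, Matrix.map_apply, ChevalleyDatum.xMat, Matrix.of_apply] <;>
    split_ifs <;> simp [map_list_sum, List.map_map, Function.comp_def]

theorem IsPres.equiv_sub {G₀ : Type} [Group G₀] [IsSimpleGroup G₀] [Finite G₀] {s : ℕ → G₀} {L : ℕ}
    {R : List (List ℕ)} (h : IsPres s L R) (hR : ∀ w ∈ R, ∀ x ∈ w, x < L) {n : Type*} [Fintype n]
    [DecidableEq n] {K F : Type*} [Field K] [Field F] (ι : K →+* F) {M : ℕ → Matrix n n K}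
    (hs : Sat M R) {U : List (List ℕ)} (hU : Sat M U) {E : List (List ℕ × List ℕ)}
    (hE : ∀ e ∈ E, ev M e.1 = ev M e.2) {L' : ℕ} {X : List (List ℕ)}
    (hd : (∀ x < L', ∃ w ∈ R ++ U, w.head? = some x) ∧
      (∀ e ∈ E, (∀ x ∈ e.1, x < L') ∧ ∀ x ∈ e.2, x < L') ∧ subOK X (letters L) E = true ∧
      0 < L ∧ L ≤ L' ∧ ∀ w ∈ X, ∀ x ∈ w, x < L') (h0 : M 0 ≠ 1) {H : Subgroup (GL n F)}
    (hX : ∀ w ∈ X, ∀ g : GL n F, g = ι.mapMatrix (ev M w) → g ∈ H)
    (hc : Nat.card G₀ = Nat.card H) :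
    ∃ e : G₀ ≃* H, ∀ x < L, ((e (s x) : GL n F) : Matrix n n F) = ι.mapMatrix (M x) := by
  obtain ⟨d1, d2, d3, d4, d5, d6⟩ := hd
  have u := isUnit_of_sat ((hs.appendM hU).mapM ι.mapMatrix.toMonoidHom) d1
  have h1 := le_of_subOK (eqs_glS u d2 (eqs_mapM hE ι.mapMatrix.toMonoidHom)) d3
  have h2 : ∀ x < L, ∃ g, H.subtype g = glS (fun x => ι.mapMatrix.toMonoidHom (M x)) x :=
    fun x hx => ⟨⟨_, (h1.trans (genW_le.mpr fun w hw => hX w hw _ (by
      rw [ev_glS u (d6 w hw), ← map_ev]; rfl))) (letter_mem_gen hx)⟩, rfl⟩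
  have h3 : ∀ x < L, (((liftS H.subtype (glS fun x => ι.mapMatrix.toMonoidHom (M x)) x : H) : GL n F) :
      Matrix n n F) = ι.mapMatrix (M x) := fun x hx =>
    (congrArg Units.val (liftS_val (h2 x hx))).trans (glS_val (u x (by omega)))
  obtain ⟨e, he⟩ := h.equiv_of_card hR _ (sat_liftS Subtype.val_injective h2 hR
    (sat_glS u (fun w hw x hx => (hR w hw x hx).trans_le d5) (hs.mapM _))) d4 (fun e => h0 (by
      have := h3 0 d4
      rw [e] at this
      exact Matrix.map_injective ι.injective (this.symm.trans (map_one ι.mapMatrix).symm))) hc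
  exact ⟨e, fun x hx => by rw [he x hx, h3 x hx]⟩

theorem mem_chev (D : ChevalleyDatum) {K F : Type*} [Field K] [Field F] (ι : K →+* F)
    {M : ℕ → Matrix D.Idx D.Idx K} {X : List (List ℕ)}
    (h : ∀ w ∈ X, ∃ x r t, w = [x] ∧ M x = D.xMat K r t) :
    ∀ w ∈ X, ∀ g : GL D.Idx F, g = ι.mapMatrix (ev M w) → g ∈ D.group F := fun w hw g e => by
  obtain ⟨x, r, t, rfl, h1⟩ := h w hw
  exact Subgroup.subset_closure ⟨r, ι t, by rw [e, ev_single, h1, xMat_map]⟩

theorem exists_k4hom (F : Type*) [Field F] [Fintype F] (hF : Fintype.card F = 4) :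
    Nonempty (K4 →+* F) :=
  ⟨(FiniteField.ringEquivOfCardEq (card_K4.trans hF.symm)).toRingHom⟩

/-! ### primitivity on a suborbit -/

theorem prim_sub {n : ℕ} {T : List Net} (hT : TOK n T) {K : Subgroup (Equiv.Perm ℕ)} {b S : ℕ}
    (all : ∀ g ∈ K, g b ∈ bset n S) {W : List (List ℕ)} (hW : genW (sig T) W ≤ K)
    {ts : List (List ℕ × List ℕ)} (hts : ∀ t ∈ ts, ev (sig T) t.1 ∈ K) {sch : List ℕ}
    (hA : band (invS T W (pt b)) (band (Nat.beq (grow T W sch (seeds T b ts)) S)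
      (lall (fun t => Nat.beq (grow T (t.1 :: W) t.2 (pt b)) S) ts)) = true) : Prim K b := by
  simp only [band_eq, lall_eq] at hA
  obtain ⟨hfix, hA, hB⟩ := hA
  intro M hM hS
  by_cases c : ∀ g ∈ M, g b = b
  · exact Or.inl c
  right
  push Not at c
  obtain ⟨g, hg, hgb⟩ := c
  have hWM : genW (sig T) W ≤ M := fun h hh => hS h (hW hh) (fix_of_invS hT hfix hh)
  obtain ⟨p, hp, h, hh, e⟩ := grow_orbit hT (W := W) le_rfl sch (seeds T b ts) (g b) (by
    rw [Nat.eq_of_beq_eq_true hA]; exact all _ (hM hg))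
  rcases mem_seeds hT hp with rfl | ⟨t, ht, e2⟩
  · exact absurd (e.symm.trans (fix_of_invS hT hfix hh)) hgb
  have h1 : ev (sig T) t.1 * (h⁻¹ * g) ∈ M := by
    apply hS _ (K.mul_mem (hts t ht) (K.mul_mem (K.inv_mem (hW hh)) (hM hg)))
    rw [Equiv.Perm.mul_apply, Equiv.Perm.mul_apply, ← e]; simpa using e2
  have h2 : ev (sig T) t.1 ∈ M :=
    (M.mul_mem_cancel_right (M.mul_mem (M.inv_mem (hWM hh)) hg)).mp h1
  have h3 : genW (sig T) (t.1 :: W) ≤ M := genW_le.mpr fun w hw => by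
    rcases List.mem_cons.mp hw with rfl | hw
    · exact h2
    · exact hWM (ev_mem_genW hw)
  intro k hk
  have h4 := grow_sub_orbit hT h3 t.2 b
  rw [Nat.eq_of_beq_eq_true (hB t ht)] at h4
  obtain ⟨⟨m, hm⟩, e3⟩ := h4 (all _ hk)
  have e4 : m b = k b := e3
  have h5 : m⁻¹ * k ∈ M := hS _ (K.mul_mem (K.inv_mem (hM hm)) hk) (by
    rw [Equiv.Perm.mul_apply, ← e4]; simp)
  exact (M.mul_mem_cancel_left (M.inv_mem hm)).mp h5

theorem Prim.conj {K : Subgroup (Equiv.Perm ℕ)} {b : ℕ} (h : Prim K b) {k : Equiv.Perm ℕ}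
    (hk : k ∈ K) : Prim K (k b) := fun M hM hS => by
  rcases h (M.comap (MulAut.conj k).toMonoidHom) (fun g hg => by
      simpa [mul_assoc] using K.mul_mem (K.mul_mem (K.inv_mem hk) (hM hg)) hk)
    (fun g hg e => hS _ (K.mul_mem (K.mul_mem hk hg) (K.inv_mem hk)) (by simp [e])) with h1 | h1
  · left
    intro g hg
    have := h1 (k⁻¹ * g * k) (by simpa [mul_assoc] using hg)
    simpa [Equiv.symm_apply_eq] using this
  · right
    intro g hg
    simpa [mul_assoc] using h1 (K.mul_mem (K.mul_mem (K.inv_mem hk) hg) hk)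

/-- primitivity on an orbit with more than one point -/
theorem prim_orbit {K : Subgroup (Equiv.Perm ℕ)} {a l : ℕ} (h : Prim K a)
    (ho : MulAction.orbit K a = Set.Ico a (a + l)) (hl : 1 < l) {i : ℕ} (hi : a ≤ i ∧ i < a + l) :
    Prim K i ∧ ∃ k ∈ K, k i ≠ i := by
  obtain ⟨⟨k, hk⟩, rfl⟩ : i ∈ MulAction.orbit K a := ho ▸ hi
  refine ⟨h.conj hk, ?_⟩
  by_contra hc
  push Not at hc
  have key : ∀ j, a ≤ j → j < a + l → j = k a := fun j h1 h2 => by
    obtain ⟨⟨m, hm⟩, rfl⟩ : j ∈ MulAction.orbit K a := ho ▸ ⟨h1, h2⟩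
    simpa using hc _ (K.mul_mem hm (K.inv_mem hk))
  have := key a le_rfl (by omega)
  have := key (a + 1) (by omega) (by omega)
  omega

theorem ext_prim {G : Type*} [Group G] {φ : G →* Equiv.Perm ℕ} {H : Subgroup G} {n b : ℕ}
    (hH : ∀ g, g ∈ H ↔ φ g b = b) (hb : ∀ g, φ g b < n)
    (hp : ∀ i < n, i ≠ b → Prim (H.map φ) i ∧ ∃ k ∈ H.map φ, k i ≠ i) (x : G) (hx : x ∉ H) :
    IsCoatom ((H ⊓ H.map (MulAut.conj x).toMonoidHom).subgroupOf H) := by
  obtain ⟨h1, _, ⟨k, hk, rfl⟩, h2⟩ := hp _ (hb x) (mt (hH x).mpr hx)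
  refine isCoatom_of_prim (φ := φ.comp H.subtype) (b := φ x b) (fun g => ?_)
    (by rwa [MonoidHom.range_comp, Subgroup.range_subtype]) ⟨⟨k, hk⟩, h2⟩
  rw [Subgroup.mem_subgroupOf, Subgroup.mem_inf, Subgroup.mem_map_equiv, and_iff_right g.2, hH]
  simp [Equiv.symm_apply_eq]

theorem Rep.genW_le_stab {G : Type*} [Group G] {s : ℕ → G} {L n : ℕ} {T : List Net}
    {φ : G →* Equiv.Perm ℕ} (h : Rep s L n T φ) {H : Subgroup G} {b : ℕ}
    (hH : ∀ g, g ∈ H ↔ φ g b = b) {W : List (List ℕ)}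
    (hb : band (Nat.blt b n) (lall (fun w => band (ltB L w) (mem1 T w (pt b) b)) W) = true) :
    genW (sig T) W ≤ H.map φ := by
  refine h.mem_map (fun w hw => ?_) (gen_subst s W ▸ h.gen_le_stab hH hb)
  simp only [band_eq, lall_eq] at hb
  exact ltB_spec (hb.2 w hw).1

end Cfsg.Agent.Comp
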