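import Cfsg.Agent.Comp.Cox
import Cfsg.Agent.Comp.Trans

/-!
The version of `Comp.Cox` for many letters: the inverse of a letter is given by a function.
-/

set_option autoImplicit false

namespace Cfsg.Agent.Comp
open Cfsg.Spor

variable {α : Type} [DecidableEq α]

/-- the word in the letters for an element of the free group; `e` numbers the generators -/
def freeWordG (e : α → ℕ) (iv : ℕ → ℕ) (r : FreeGroup α) : List ℕ :=
  r.toWord.map fun x => if x.2 then e x.1 else iv (e x.1)

theorem lift_eq_evG {G : Type*} [Group G] (e : α → ℕ) (iv : ℕ → ℕ) (t : ℕ → G)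
    (hi : ∀ a, t (iv (e a)) = (t (e a))⁻¹) (r : FreeGroup α) :
    FreeGroup.lift (fun a => t (e a)) r = ev t (freeWordG e iv r) := by
  conv_lhs => rw [← FreeGroup.mk_toWord (x := r)]
  rw [FreeGroup.lift_mk, freeWordG, ev, List.map_map]
  congr 1
  apply List.map_congr_left
  rintro ⟨a, b⟩ _
  cases b <;> simp [hi]

/-- the check that the list `R` presents the group -/
def coxOKG (edges : List (α × ℕ × α)) (extra : List (FreeGroup α)) (lt : List (α × Bool))
    (all : List α) (e : α → ℕ) (iv : ℕ → ℕ) (R : List (List ℕ)) : Bool :=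
  all.all (fun a => lt[e a]? == some (a, true) && R.contains [e a, iv (e a)] &&
    ((iv (e a) == e a && (coxNodes edges).contains a) ||
      lt[iv (e a)]? == some (a, false))) &&
  (List.range lt.length).all (fun x => all.any fun a => x == e a ||
    (x == iv (e a) && lt[x]? == some (a, false))) &&
  (coxNodes edges).all (fun a => (coxNodes edges).all fun b =>
    R.contains (wpow [e a, e b] (coxLabel edges a b)) ||
    R.contains (wpow [e b, e a] (coxLabel edges a b))) &&
  extra.all (fun r => R.contains (freeWordG e iv r)) &&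
  R.all (fun w => (extra.map (freeWordG e iv)).contains w ||
    all.any (fun a => w == [e a, iv (e a)] || w == [iv (e a), e a]) ||
    (coxNodes edges).any fun a => (coxNodes edges).any fun b =>
      w == wpow [e a, e b] (coxLabel edges a b))

theorem isPres_coxG {edges : List (α × ℕ × α)} {extra : List (FreeGroup α)} {lt : List (α × Bool)}
    {all : List α} {e : α → ℕ} {iv : ℕ → ℕ} {R : List (List ℕ)} (hall : ∀ a, a ∈ all)
    (h : coxOKG edges extra lt all e iv R = true) :
    IsPres (coxS edges extra lt) lt.length R ∧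
      (∀ a, coxS edges extra lt (e a) = PresentedGroup.of a) ∧
      ∀ r, PresentedGroup.mk _ r = ev (coxS edges extra lt) (freeWordG e iv r) := by
  simp only [coxOKG, Bool.and_eq_true, List.all_eq_true, List.any_eq_true, Bool.or_eq_true,
    beq_iff_eq, List.contains_iff_mem, List.mem_range, List.mem_map] at h
  obtain ⟨⟨⟨⟨h1, h2⟩, h3⟩, h4⟩, h5⟩ := h
  set s := coxS edges extra lt with hs
  have s1 : ∀ a, s (e a) = PresentedGroup.of a := fun a => by
    rw [hs, coxS, (h1 a (hall a)).1.1]
  have cox : ∀ a ∈ coxNodes edges, ∀ b ∈ coxNodes edges,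
      (s (e a) * s (e b)) ^ coxLabel edges a b = 1 := by
    intro a ha b hb
    rw [s1, s1]
    exact PresentedGroup.one_of_mem (rels := coxRelators edges ∪ {r | r ∈ extra})
      (x := (FreeGroup.of a * FreeGroup.of b) ^ coxLabel edges a b) (Or.inl ⟨a, ha, b, hb, rfl⟩)
  have s2 : ∀ a, s (iv (e a)) = (s (e a))⁻¹ := fun a => by
    rcases (h1 a (hall a)).2 with ⟨h6, h7⟩ | h6
    · rw [h6]
      have := cox a h7 a h7
      rw [coxLabel, if_pos rfl, pow_one] at this
      exact eq_inv_of_mul_eq_one_left this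
    · rw [s1, hs, coxS, h6]
  have s3 : ∀ r, PresentedGroup.mk _ r = ev s (freeWordG e iv r) := fun r => by
    rw [← lift_eq_evG e iv s s2]
    congr 1
    ext a
    simp [s1, PresentedGroup.of]
  have hlt : ∀ a, e a < lt.length := fun a => by
    have := (h1 a (hall a)).1.1
    by_contra hc
    rw [List.getElem?_eq_none (not_lt.mp hc)] at this
    exact absurd this (by simp)
  refine ⟨⟨?_, fun w hw => ?_, fun G' _ t ht => ?_⟩, s1, s3⟩
  · rw [eq_top_iff, ← PresentedGroup.closure_range_of, Subgroup.closure_le]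
    rintro _ ⟨a, rfl⟩
    rw [← s1]; exact letter_mem_gen (hlt a)
  · rcases h5 w hw with (⟨r, hr, rfl⟩ | ⟨a, _, rfl | rfl⟩) | ⟨a, ha, b, hb, rfl⟩
    · rw [← s3]
      exact PresentedGroup.one_of_mem (Or.inr hr)
    · simp [s2]
    · simp [s2]
    · rw [ev_wpow]; simpa using cox a ha b hb
  · have t2 : ∀ a, t (iv (e a)) = (t (e a))⁻¹ := fun a => by
      have := ht _ (h1 a (hall a)).1.2
      simp only [ev_cons, ev_nil, mul_one] at this
      exact eq_inv_of_mul_eq_one_right this
    have hr : ∀ r ∈ coxRelators edges ∪ {r | r ∈ extra},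
        FreeGroup.lift (fun a => t (e a)) r = 1 := by
      rintro r (⟨a, ha, b, hb, rfl⟩ | hr)
      · simp only [map_pow, map_mul, FreeGroup.lift_apply_of]
        rcases h3 a ha b hb with h6 | h6
        · simpa [ev_wpow] using ht _ h6
        · have h7 : (t (e b) * t (e a)) ^ coxLabel edges a b = 1 := by
            simpa [ev_wpow] using ht _ h6
          have : t (e a) * t (e b) = t (e a) * (t (e b) * t (e a)) * (t (e a))⁻¹ := by group
          rw [this, conj_pow, h7]; simp
      · rw [lift_eq_evG e iv t t2]; exact ht _ (h4 r hr)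
    refine ⟨PresentedGroup.toGroup hr, fun x hx => ?_⟩
    obtain ⟨a, _, rfl | ⟨rfl, _⟩⟩ := h2 x hx
    · rw [s1, PresentedGroup.toGroup.of]
    · rw [s2, map_inv, s1, PresentedGroup.toGroup.of, t2]

/-- the image of a subgroup generated by a list of words of the free group -/
theorem map_closure_eqG {rels : Set (FreeGroup α)} {s : ℕ → PresentedGroup rels} {e : α → ℕ}
    {iv : ℕ → ℕ} (h : ∀ r, PresentedGroup.mk _ r = ev s (freeWordG e iv r)) (l : List (FreeGroup α))
    (S : Set (FreeGroup α)) (hS : ∀ r, r ∈ S ↔ r ∈ l) (W : List (List ℕ))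
    (hW : l.map (freeWordG e iv) = W) :
    (Subgroup.closure S).map (PresentedGroup.mk rels) = genW s W := by
  subst hW
  rw [MonoidHom.map_closure, genW]
  congr 1
  ext g
  constructor
  · rintro ⟨r, hr, rfl⟩
    exact ⟨_, List.mem_map_of_mem ((hS r).mp hr), h r⟩
  · rintro ⟨w, hw, rfl⟩
    obtain ⟨r, hr, rfl⟩ := List.mem_map.mp hw
    exact ⟨r, (hS r).mpr hr, h r⟩

/-- free reduction, the inverse of `x` being `x ^^^ 1` -/
def fr : List ℕ → List ℕ
  | [] => []
  | x :: w => match fr w with
    | [] => [x]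
    | y :: u => if y = x ^^^ 1 then u else x :: y :: u

theorem ev_fr {G : Type*} [Group G] {s : ℕ → G} {L : ℕ} (h : ∀ x < L, s x * s (x ^^^ 1) = 1)
    {w : List ℕ} (hw : ∀ x ∈ w, x < L) : ev s (fr w) = ev s w := by
  induction w with
  | nil => rfl
  | cons x w ih =>
    have e := ih fun y hy => hw y (List.mem_cons_of_mem _ hy)
    rw [ev_cons, ← e, fr]
    cases fr w with
    | nil => simp
    | cons y u =>
      dsimp only
      split_ifs with h1
      · rw [h1, ev_cons, ← mul_assoc, h x (hw x List.mem_cons_self), one_mul]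
      · simp

theorem Sat.of_fr {G : Type*} [Group G] {s : ℕ → G} {L : ℕ} {R R' : List (List ℕ)} (h : Sat s R')
    (h1 : ∀ x < L, [x, x ^^^ 1] ∈ R') (h2 : ∀ w ∈ R, (∀ x ∈ w, x < L) ∧ (fr w = [] ∨ fr w ∈ R')) :
    Sat s R := fun w hw => by
  rw [← ev_fr (L := L) (fun x hx => by simpa using h _ (h1 x hx)) (h2 w hw).1]
  rcases (h2 w hw).2 with e | e
  · rw [e, ev_nil]
  · exact h _ e

end Cfsg.Agent.Comp
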