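import Cfsg.Agent.Comp.DCount

/-!
Upper bounds for centralisers from the double coset decomposition.
-/

set_option autoImplicit false

namespace Cfsg.Agent.Comp
open Subgroup

variable {P G : Type*} [Group P] [Group G] {ι : P →* G}

theorem dc_countL [Finite P] (w : G) {r : G → Prop} (hr : ∀ a g, r (ι a * g) ↔ r g) :
    (Dc ι w).ncard * {h : P | r (w * ι h)}.ncard = Nat.card P * {g ∈ Dc ι w | r g}.ncard := by
  classical
  have := Fintype.ofFinite P
  have f := Dc_finite (ι := ι) w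
  rw [Set.ncard_eq_toFinset_card _ f, Nat.card_eq_fintype_card, ← Finset.card_univ]
  refine Finset.card_mul_eq_card_mul (fun g h => r (g * ι h)) (fun g hg => ?_) fun h _ => ?_
  · obtain ⟨a, b, rfl⟩ := f.mem_toFinset.mp hg
    rw [← Set.ncard_coe_finset]
    refine Set.ncard_congr (fun h _ => b * h) (fun h e => ?_) (fun _ _ _ _ e => by simpa using e)
      fun h e => ⟨b⁻¹ * h, ?_, by simp⟩
    · simp only [Finset.mem_coe, Finset.mem_bipartiteAbove] at e
      exact (hr a _).mp (by simpa [mul_assoc] using e.2)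
    · simp only [Finset.mem_coe, Finset.mem_bipartiteAbove, Finset.mem_univ, true_and]
      simpa [mul_assoc] using (hr a _).mpr e
  · rw [← Set.ncard_coe_finset]
    refine Set.ncard_congr (fun g _ => g * ι h) (fun g e => ?_) (fun _ _ _ _ e => by simpa using e)
      fun g e => ⟨g * ι h⁻¹, ?_, by simp⟩
    · simp only [Finset.mem_coe, Finset.mem_bipartiteBelow, Set.Finite.mem_toFinset] at e
      exact ⟨by simpa using bi_Dc w g e.1 1 h, e.2⟩
    · simp only [Finset.mem_coe, Finset.mem_bipartiteBelow, Set.Finite.mem_toFinset]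
      exact ⟨by simpa using bi_Dc w g e.1 1 h⁻¹, by simpa using e.2⟩

theorem stabQ_card [Finite P] (hι : Function.Injective ι) (w : G) :
    (Dc ι w).ncard * Nat.card (stabQ ι w) = Nat.card P * Nat.card P := by
  have := dc_countL (ι := ι) w (r := fun g => Qr ι w g) fun a g =>
    ⟨fun h => h.trans ⟨a, rfl⟩, fun h => h.trans (Qr.symm ⟨a, rfl⟩)⟩
  refine this.trans ?_
  congr 1
  rw [← Set.ncard_univ]
  refine (Set.ncard_congr (t := {g ∈ Dc ι w | Qr ι w g}) (fun a _ => ι a * w) (fun a _ => ⟨⟨a, 1, by simp⟩, Qr.symm ⟨a, rfl⟩⟩)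
    (fun _ _ _ _ e => hι (by simpa using e)) fun g e => ?_).symm
  obtain ⟨a, rfl⟩ := e.2.symm
  exact ⟨a, trivial, rfl⟩

theorem conj_count [Finite P] (t : P) (Y : Set P) : {h : P | h * t * h⁻¹ ∈ Y}.ncard =
    {y ∈ Y | IsConj t y}.ncard * Nat.card (centralizer ({t} : Set P)) := by
  classical
  have f := Set.toFinite {h : P | h * t * h⁻¹ ∈ Y}
  have f2 := Set.toFinite {y ∈ Y | IsConj t y}
  rw [Set.ncard_eq_toFinset_card _ f, Set.ncard_eq_toFinset_card _ f2, ← mul_one (Finset.card _)]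
  refine Finset.card_mul_eq_card_mul (fun h y => h * t * h⁻¹ = y) (fun g hg => ?_) fun y hy => ?_
  · rw [Finset.card_eq_one]
    refine ⟨g * t * g⁻¹, ?_⟩
    ext y
    simp only [Finset.mem_bipartiteAbove, Set.Finite.mem_toFinset, Finset.mem_singleton]
    exact ⟨fun e => e.2.symm, fun e => by
      rw [e]; exact ⟨⟨f.mem_toFinset.mp hg, isConj_iff.mpr ⟨g, rfl⟩⟩, rfl⟩⟩
  · obtain ⟨hy, hc⟩ := f2.mem_toFinset.mp hy
    obtain ⟨c, rfl⟩ := isConj_iff.mp hc
    rw [← Set.ncard_coe_finset]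
    change _ = (centralizer ({t} : Set P) : Set P).ncard
    refine Set.ncard_congr (fun g _ => c⁻¹ * g) (fun g e => ?_) (fun _ _ _ _ e => by simpa using e)
      fun g e => ⟨c * g, ?_, by simp⟩
    · simp only [Finset.mem_coe, Finset.mem_bipartiteBelow] at e
      refine mem_centralizer_singleton_iff.mpr ?_
      calc c⁻¹ * g * t = c⁻¹ * (g * t * g⁻¹) * g := by group
        _ = _ := by rw [e.2]; group
    · have e : g * t = t * g := mem_centralizer_singleton_iff.mp e
      have e2 : c * g * t * (c * g)⁻¹ = c * t * c⁻¹ := by rw [mul_assoc c, e]; group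
      simp only [Finset.mem_coe, Finset.mem_bipartiteBelow, Set.Finite.mem_toFinset, Set.mem_ofPred_eq,
        e2]
      exact ⟨hy, trivial⟩

theorem cent_bound [Finite P] [Finite G] (hι : Function.Injective ι) (t : P) :
    Nat.card P * Nat.card (centralizer ({ι t} : Set G)) ≤
      {g : G | ∃ a, g * ι t * g⁻¹ = ι a}.ncard * Nat.card (centralizer ({t} : Set P)) := by
  classical
  have := Fintype.ofFinite (P × centralizer ({ι t} : Set G))
  have f := Set.toFinite {g : G | ∃ a, g * ι t * g⁻¹ = ι a}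
  rw [← Nat.card_prod, Nat.card_eq_fintype_card, ← Finset.card_univ,
    Set.ncard_eq_toFinset_card _ f, ← mul_one (Finset.card _)]
  refine Finset.card_mul_le_card_mul (fun x g => ι x.1 * x.2 = g) (fun x _ => ?_) fun g _ => ?_
  · refine Finset.card_pos.mpr ⟨ι x.1 * x.2, ?_⟩
    simp only [Finset.mem_bipartiteAbove, Set.Finite.mem_toFinset, and_true]
    refine ⟨x.1 * t * x.1⁻¹, ?_⟩
    rw [mul_assoc (ι x.1), mem_centralizer_singleton_iff.mp x.2.2]
    simp [mul_assoc]
  · rcases Finset.eq_empty_or_nonempty (Finset.bipartiteBelow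
      (fun (x : P × centralizer ({ι t} : Set G)) g => ι x.1 * x.2 = g) Finset.univ g) with e | ⟨x, hx⟩
    · rw [e]; simp
    rw [← Set.ncard_coe_finset]
    change _ ≤ (centralizer ({t} : Set P) : Set P).ncard
    simp only [Finset.mem_bipartiteBelow, Finset.mem_univ, true_and] at hx
    refine Set.ncard_le_ncard_of_injOn (fun y => x.1⁻¹ * y.1) (fun y hy => ?_) fun y hy u hu e => ?_
    · simp only [Finset.mem_coe, Finset.mem_bipartiteBelow, Finset.mem_univ, true_and] at hy
      have e : ι (x.1⁻¹ * y.1) = x.2 * (y.2 : G)⁻¹ := by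
        rw [map_mul, map_inv, inv_mul_eq_iff_eq_mul, ← mul_assoc, hx, ← hy]; simp
      refine mem_centralizer_singleton_iff.mpr (hι ?_)
      rw [map_mul, map_mul ι t, e]
      exact mem_centralizer_singleton_iff.mp (mul_mem x.2.2 (inv_mem y.2.2))
    · simp only [Finset.mem_coe, Finset.mem_bipartiteBelow, Finset.mem_univ, true_and] at hy hu
      have e : y.1 = u.1 := by simpa using e
      rw [← hu, e] at hy
      exact Prod.ext e (Subtype.ext (mul_left_cancel hy))

theorem fix_count [Finite P] (w : G) (t : P) :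
    (Dc ι w).ncard * {h : P | h * t * h⁻¹ ∈ stabQ ι w}.ncard =
      Nat.card P * ({g : G | ∃ a, g * ι t * g⁻¹ = ι a} ∩ Dc ι w).ncard := by
  have := dc_countL (ι := ι) w (r := fun g => ∃ a, g * ι t * g⁻¹ = ι a) fun a g =>
    ⟨fun ⟨b, e⟩ => ⟨a⁻¹ * b * a, by rw [map_mul, map_mul, ← e]; simp [mul_assoc]⟩,
      fun ⟨b, e⟩ => ⟨a * b * a⁻¹, by rw [map_mul, map_mul, ← e]; simp [mul_assoc]⟩⟩
  rw [Set.inter_comm]
  refine Eq.trans ?_ this
  congr 2
  ext h
  constructor
  · rintro ⟨a, e⟩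
    refine ⟨a⁻¹, ?_⟩
    rw [map_inv, eq_inv_iff_mul_eq_one, mul_eq_one_comm]
    calc _ = ι a * (w * ι (h * t * h⁻¹)) * w⁻¹ := by simp [mul_assoc]
      _ = 1 := by rw [← e]; simp
  · rintro ⟨a, e⟩
    exact ⟨a⁻¹, by rw [map_inv, ← e]; simp [mul_assoc]⟩

theorem KAct.fix [Finite P] {z : G} {φ : P →* Equiv.Perm ℕ} {n k : ℕ} (h : KAct ι z φ n k) (t : P) :
    {g : P | φ (g * t * g⁻¹) 0 = 0}.ncard = {i | i < n ∧ φ t i = i}.ncard * k := by
  rw [← h.pre (A := {i | i < n ∧ φ t i = i}) fun i hi => hi.1]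
  refine Set.ncard_congr (fun g _ => g⁻¹) (fun g e => ⟨h.lt _, ?_⟩)
    (fun _ _ _ _ e => inv_injective e) fun g e => ⟨g⁻¹, ?_, inv_inv g⟩
  · have e : φ (g * t * g⁻¹) 0 = 0 := e
    rw [map_mul, map_mul, Equiv.Perm.mul_apply, Equiv.Perm.mul_apply] at e
    rw [← (φ g).injective.eq_iff, e]; simp
  · change φ (g⁻¹ * t * g⁻¹⁻¹) 0 = 0
    rw [inv_inv, map_mul, map_mul, Equiv.Perm.mul_apply, Equiv.Perm.mul_apply, e.2]; simp

/-- the word moves at least `a` points -/
noncomputable def movB (n B : Nat) (T : List Net) (w : List Nat) (a : Nat) : Bool :=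
  frc (moved n B T w B) fun S =>
    band (Nat.beq (Nat.shiftRight S n) (nat_lit 0)) (Nat.ble a (popc B S))

theorem fix_le {n B : ℕ} {T : List Net} (hT : TOK n T) (hN : n ≤ 2 ^ B) {w : List ℕ} {a : ℕ}
    (h : movB n B T w a = true) : {i | i < n ∧ ev (sig T) w i = i}.ncard + a ≤ n := by
  rw [movB, frc_eq, band_eq] at h
  have h1 : moved n B T w B < 2 ^ n := by
    have : moved n B T w B >>> n = 0 := Nat.eq_of_beq_eq_true h.1
    rw [Nat.shiftRight_eq_div_pow] at this
    exact (Nat.div_eq_zero_iff_lt (by positivity)).mp this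
  have h2 := Nat.le_of_ble_eq_true h.2
  rw [← ncard_bset hN h1] at h2
  have f := Set.finite_Iio n
  have h3 := Set.ncard_union_eq (s := {i | i < n ∧ ev (sig T) w i = i})
    (t := bset n (moved n B T w B))
    (Set.disjoint_left.mpr fun i hi hj => (testBit_moved hT hN w hi.1).mp hj.2 hi.2)
    (f.subset fun i hi => hi.1) (f.subset fun i hi => hi.1)
  have h4 := Set.ncard_le_ncard (s := {i | i < n ∧ ev (sig T) w i = i} ∪ bset n (moved n B T w B))
    (t := Set.Iio n) (fun i hi => hi.elim (fun e => e.1) fun e => e.1) f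
  rw [Set.ncard_Iio_nat] at h4
  omega

/-- products of two lists are distinct -/
theorem nodup_mul {α : Type*} (κ : P → α) {S : Subgroup P} (hκ : ∀ g, ∀ s ∈ S, κ (g * s) = κ g)
    {U V : List P} (hU : (U.map κ).Nodup) (hS : ∀ v ∈ V, v ∈ S) (hV : V.Nodup) :
    (U.flatMap fun u => V.map (u * ·)).Nodup := by
  rw [List.nodup_flatMap]
  refine ⟨fun u _ => hV.map (mul_right_injective u), ?_⟩
  refine (List.pairwise_map.mp hU).imp fun {a b} hab => ?_
  intro g h1 h2
  obtain ⟨v, hv, rfl⟩ := List.mem_map.mp h1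
  obtain ⟨u, hu, e⟩ := List.mem_map.mp h2
  exact hab (by rw [← hκ a v (hS v hv), ← e, hκ b u (hS u hu)])

theorem count_le [Finite P] {S : Subgroup P} {l : List P} (hl : l.Nodup) (hS : ∀ g ∈ l, g ∈ S)
    (hc : Nat.card S ≤ l.length) {α : Type*} (L : List α) (f : α → P) (e : L.map f = l)
    (p : P → Prop) (q : α → Bool) (hq : ∀ a, p (f a) → q a = true) :
    {y ∈ (S : Set P) | p y}.ncard ≤ L.countP q := by
  classical
  have h1 : (l.toFinset : Set P) = S := Set.eq_of_subset_of_ncard_le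
    (fun g hg => hS g (by simpa using hg))
    (by rw [Set.ncard_coe_finset, List.toFinset_card_of_nodup hl]; exact hc)
  rw [List.countP_eq_length_filter, ← List.length_map (f := f)]
  refine le_trans (Set.ncard_le_ncard (t := (((L.filter q).map f).toFinset : Set P)) ?_) ?_
  · rintro y ⟨hy, hp⟩
    rw [← h1, ← e] at hy
    obtain ⟨a, ha, rfl⟩ := List.mem_map.mp (List.mem_toFinset.mp hy)
    exact List.mem_toFinset.mpr (List.mem_map_of_mem (List.mem_filter.mpr ⟨ha, hq a hp⟩))
  · rw [Set.ncard_coe_finset]; exact List.toFinset_card_le _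

theorem le_ncard_of_nodup {α : Type*} [Finite α] {S : Set α} {l : List α} (hl : l.Nodup)
    (hS : ∀ g ∈ l, g ∈ S) : l.length ≤ S.ncard := by
  classical
  rw [← List.toFinset_card_of_nodup hl, ← Set.ncard_coe_finset]
  exact Set.ncard_le_ncard fun g hg => hS g (by simpa using hg)

/-- strictly increasing -/
noncomputable def incB (l : List Nat) : Nat → Bool :=
  @List.rec Nat (fun _ => Nat → Bool) (fun _ => true)
    (fun a _ ih b => frc a fun a => band (Nat.ble b a) (ih (Nat.succ a))) l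

theorem incB_spec {l : List ℕ} {b : ℕ} (h : incB l b = true) : l.Nodup ∧ ∀ a ∈ l, b ≤ a := by
  induction l generalizing b with
  | nil => simp
  | cons a l ih =>
    have e : incB (a :: l) b = frc a fun a => band (Nat.ble b a) (incB l (Nat.succ a)) := rfl
    rw [e, frc_eq, band_eq] at h
    have h1 := Nat.le_of_ble_eq_true h.1
    obtain ⟨h2, h3⟩ := ih h.2
    exact ⟨List.nodup_cons.mpr ⟨fun c => by have := h3 a c; omega, h2⟩,
      List.forall_mem_cons.mpr ⟨h1, fun x hx => by have := h3 x hx; omega⟩⟩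

end Cfsg.Agent.Comp
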