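import Cfsg.Agent.Comp.OutKit
import Cfsg.Agent.Comp.Sign

/-!
Counting double cosets `H w H` of the image `H` of `ι` from the collapsed adjacency matrix.
-/

set_option autoImplicit false

namespace Cfsg.Agent.Comp

variable {P G : Type*} [Group P] [Group G] (ι : P →* G)

/-- the right cosets `H x` and `H y` are equal -/
def Qr (x y : G) : Prop := ∃ h : P, x = ι h * y

/-- the double coset -/
def Dc (w : G) : Set G := {g | ∃ a b : P, g = ι a * w * ι b}

/-- a union of double cosets -/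
def Bi (D : Set G) : Prop := ∀ g ∈ D, ∀ a b : P, ι a * g * ι b ∈ D

variable {ι}

theorem Qr.refl (x : G) : Qr ι x x := ⟨1, by simp⟩

theorem Qr.symm {x y : G} (h : Qr ι x y) : Qr ι y x := by
  obtain ⟨a, rfl⟩ := h; exact ⟨a⁻¹, by simp⟩

theorem Qr.trans {x y u : G} (h : Qr ι x y) (h' : Qr ι y u) : Qr ι x u := by
  obtain ⟨a, rfl⟩ := h; obtain ⟨b, rfl⟩ := h'; exact ⟨a * b, by simp [mul_assoc]⟩

theorem Qr.mul {x y : G} (h : Qr ι x y) (u : G) : Qr ι (x * u) (y * u) := by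
  obtain ⟨a, rfl⟩ := h; exact ⟨a, mul_assoc _ _ _⟩

theorem Qr.cancel {x y u : G} (h : Qr ι (x * u) (y * u)) : Qr ι x y := by
  simpa using h.mul u⁻¹

theorem Qr.mem {x w : G} {b : P} (h : Qr ι x (w * ι b)) : x ∈ Dc ι w := by
  obtain ⟨a, rfl⟩ := h; exact ⟨a, b, (mul_assoc _ _ _).symm⟩

theorem bi_Dc (w : G) : Bi ι (Dc ι w) := by
  rintro _ ⟨a, b, rfl⟩ c d
  exact ⟨c * a, b * d, by simp [mul_assoc]⟩

theorem self_mem_Dc (w : G) : w ∈ Dc ι w := ⟨1, 1, by simp⟩

theorem Bi.iff {D : Set G} (h : Bi ι D) (g : G) (a b : P) : ι a * g * ι b ∈ D ↔ g ∈ D :=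
  ⟨fun e => by simpa [mul_assoc] using h _ e a⁻¹ b⁻¹, fun e => h g e a b⟩

theorem Bi.compl {D : Set G} (h : Bi ι D) : Bi ι Dᶜ := fun g e a b c => e ((h.iff g a b).mp c)

theorem Bi.union {D E : Set G} (h : Bi ι D) (h' : Bi ι E) : Bi ι (D ∪ E) := fun g e a b =>
  e.elim (fun e => Or.inl (h g e a b)) fun e => Or.inr (h' g e a b)

theorem Bi.Dc_sub {D : Set G} (h : Bi ι D) {w : G} (hw : w ∈ D) : Dc ι w ⊆ D := by
  rintro _ ⟨a, b, rfl⟩; exact h w hw a b

theorem Dc_finite [Finite P] (w : G) : (Dc ι w).Finite :=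
  (Set.finite_range fun x : P × P => ι x.1 * w * ι x.2).subset
    (by rintro _ ⟨a, b, rfl⟩; exact ⟨(a, b), rfl⟩)

theorem Dc_disjoint {w u : G} (h : w ∉ Dc ι u) : Disjoint (Dc ι w) (Dc ι u) :=
  Set.disjoint_left.mpr fun _ ⟨a, b, e⟩ hu => h (((bi_Dc u).iff w a b).mp (e ▸ hu))

/-- the number of `h` with `w h z ∈ D` -/
noncomputable def mc (ι : P →* G) (z w : G) (D : Set G) : ℕ := {h : P | w * ι h * z ∈ D}.ncard

theorem mc_congr {z w w' : G} {D : Set G} (hD : Bi ι D) (h : w' ∈ Dc ι w) :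
    mc ι z w' D = mc ι z w D := by
  obtain ⟨a, b, rfl⟩ := h
  refine Set.ncard_congr (fun h _ => b * h) (fun h e => ?_) (fun _ _ _ _ e => by simpa using e)
    fun h e => ⟨b⁻¹ * h, ?_, by simp⟩
  · have := (hD.iff (w * ι (b * h) * z) a 1).mp (by simpa [mul_assoc] using e)
    exact this
  · have := hD _ e a 1
    simpa [mul_assoc] using this

theorem dc_count [Finite P] (z w : G) {D : Set G} (hD : Bi ι D) :
    (Dc ι w).ncard * mc ι z w D = Nat.card P * {g ∈ Dc ι w | g * z ∈ D}.ncard := by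
  classical
  have := Fintype.ofFinite P
  have f := Dc_finite (ι := ι) w
  rw [Set.ncard_eq_toFinset_card _ f, Nat.card_eq_fintype_card, ← Finset.card_univ]
  refine Finset.card_mul_eq_card_mul (fun g h => g * ι h * z ∈ D) (fun g hg => ?_) fun h _ => ?_
  · rw [← mc_congr hD (f.mem_toFinset.mp hg), mc, ← Set.ncard_coe_finset]
    congr 1; ext; simp [Finset.mem_bipartiteAbove]
  · rw [← Set.ncard_coe_finset]
    refine Set.ncard_congr (fun g _ => g * ι h) (fun g e => ?_) (fun _ _ _ _ e => by simpa using e)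
      fun g e => ⟨g * ι h⁻¹, ?_, by simp⟩
    · simp only [Finset.mem_coe, Finset.mem_bipartiteBelow, Set.Finite.mem_toFinset] at e
      exact ⟨by simpa using bi_Dc w g e.1 1 h, e.2⟩
    · simp only [Finset.mem_coe, Finset.mem_bipartiteBelow, Set.Finite.mem_toFinset]
      exact ⟨by simpa using bi_Dc w g e.1 1 h⁻¹, by simpa using e.2⟩

theorem dc_sym [Finite P] {z : G} {u : P} (hz : z * z = ι u) (w w' : G) :
    (Dc ι w).ncard * mc ι z w (Dc ι w') = (Dc ι w').ncard * mc ι z w' (Dc ι w) := by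
  rw [dc_count z w (bi_Dc w'), dc_count z w' (bi_Dc w)]
  congr 1
  refine Set.ncard_congr (fun g _ => g * z) (fun g e => ⟨e.2, ?_⟩)
    (fun _ _ _ _ e => by simpa using e) fun g e => ⟨g * z⁻¹, ⟨?_, by simpa using e.1⟩, by simp⟩
  · rw [mul_assoc, hz]; simpa using bi_Dc w g e.1 1 u
  · have : g * z⁻¹ = ι 1 * (g * z) * ι u⁻¹ := by rw [map_inv, ← hz]; simp [mul_assoc]
    rw [this]; exact bi_Dc w _ e.2 _ _

/-- a transitive action on the cosets of a subgroup normalised by `z` -/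
structure KAct (ι : P →* G) (z : G) (φ : P →* Equiv.Perm ℕ) (n k : ℕ) : Prop where
  tw : ∀ g, φ g 0 = 0 → ∃ g', ι g * z = z * ι g'
  lt : ∀ g, φ g 0 < n
  tr : ∀ i < n, ∃ g, φ g 0 = i
  cd : Nat.card P = n * k
  st : {g | φ g 0 = 0}.ncard = k

/-- all `h` sending `0` into `A` have `w h z ∈ D` -/
def Cov (ι : P →* G) (z : G) (φ : P →* Equiv.Perm ℕ) (w : G) (A : Set ℕ) (D : Set G) : Prop :=
  ∀ h, φ h 0 ∈ A → w * ι h * z ∈ D

/-- the stabiliser of the coset `H w` -/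
def stabQ (ι : P →* G) (w : G) : Subgroup P where
  carrier := {s | Qr ι w (w * ι s)}
  one_mem' := by simpa using Qr.refl w
  mul_mem' := fun {a b} ha hb => by
    have := Qr.trans hb (Qr.mul ha (ι b))
    simpa [mul_assoc] using this
  inv_mem' := fun {a} ha => by
    have := (Qr.mul ha (ι a⁻¹)).symm
    simpa [mul_assoc] using this

variable {z : G} {φ : P →* Equiv.Perm ℕ} {n k : ℕ}

theorem KAct.pre [Finite P] (h : KAct ι z φ n k) {A : Set ℕ} (hA : ∀ i ∈ A, i < n) :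
    {g | φ g 0 ∈ A}.ncard = A.ncard * k := by
  classical
  have f : A.Finite := (Set.finite_lt_nat n).subset hA
  have f2 := Set.toFinite {g | φ g 0 ∈ A}
  rw [Set.ncard_eq_toFinset_card _ f, Set.ncard_eq_toFinset_card _ f2, ← mul_one (Finset.card _)]
  refine Finset.card_mul_eq_card_mul (fun g i => φ g 0 = i) (fun g hg => ?_) fun i hi => ?_
  · rw [Finset.card_eq_one]
    refine ⟨φ g 0, ?_⟩
    ext i
    simp only [Finset.mem_bipartiteAbove, Set.Finite.mem_toFinset, Finset.mem_singleton]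
    exact ⟨fun e => e.2.symm, fun e => by rw [e]; exact ⟨f2.mem_toFinset.mp hg, rfl⟩⟩
  · obtain ⟨t, rfl⟩ := h.tr i (hA i (f.mem_toFinset.mp hi))
    rw [← h.st, ← Set.ncard_coe_finset]
    refine Set.ncard_congr (fun g _ => t⁻¹ * g) (fun g e => ?_) (fun _ _ _ _ e => by simpa using e)
      fun g e => ⟨t * g, ?_, by simp⟩
    · simp only [Finset.mem_coe, Finset.mem_bipartiteBelow] at e
      simp [e.2]
    · have e : φ g 0 = 0 := e
      simp only [Finset.mem_coe, Finset.mem_bipartiteBelow, Set.Finite.mem_toFinset]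
      exact ⟨by simpa [e] using f.mem_toFinset.mp hi, by simp [e]⟩

theorem KAct.cov (h : KAct ι z φ n k) {w : G} {D : Set G} (hD : Bi ι D) {A : Set ℕ}
    (hA : ∀ i ∈ A, ∃ t, w * ι t * z ∈ D ∧ ∃ s ∈ stabQ ι w, φ s (φ t 0) = i) :
    Cov ι z φ w A D := fun g hg => by
  obtain ⟨t, ht, s, ⟨a, ha⟩, e⟩ := hA _ hg
  obtain ⟨g', e'⟩ := h.tw ((s * t)⁻¹ * g) (by
    rw [map_mul, Equiv.Perm.mul_apply, ← e, map_inv, Equiv.Perm.inv_eq_iff_eq]; simp)
  have : w * ι g * z = ι a⁻¹ * (w * ι t * z) * ι g' := by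
    have e2 : ι a⁻¹ * w = w * ι s := by
      nth_rewrite 1 [ha]
      simp
    calc w * ι g * z = (w * ι s) * ι t * (ι ((s * t)⁻¹ * g) * z) := by simp [mul_assoc]
      _ = _ := by rw [e', ← e2]; simp [mul_assoc]
  rw [this]; exact hD _ ht _ _

theorem KAct.row [Finite P] (h : KAct ι z φ n k) {w : G} {D : Set G} {A B : Set ℕ} {a b : ℕ}
    (h1 : Cov ι z φ w A D) (h2 : Cov ι z φ w B Dᶜ) (hA : ∀ i ∈ A, i < n) (hB : ∀ i ∈ B, i < n)
    (ha : a ≤ A.ncard) (hb : b ≤ B.ncard) (hn : a + b = n) : mc ι z w D = a * k := by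
  have e1 : {g | φ g 0 ∈ A}.ncard ≤ mc ι z w D := Set.ncard_le_ncard h1
  have e2 : {g | φ g 0 ∈ B}.ncard ≤ mc ι z w Dᶜ := Set.ncard_le_ncard h2
  have e3 : mc ι z w D + mc ι z w Dᶜ = Nat.card P := Set.ncard_add_ncard_compl _
  rw [h.pre hA] at e1
  rw [h.pre hB] at e2
  rw [h.cd, ← hn] at e3
  have := Nat.mul_le_mul_right k ha
  have := Nat.mul_le_mul_right k hb
  nlinarith

/-- the points of a list of pairs -/
def ptsL (l : List (ℕ × List ℕ)) : ℕ := l.foldr (fun p S => Nat.lor (pt p.1) S) 0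

theorem mem_ptsL {l : List (ℕ × List ℕ)} {i : ℕ} (h : (ptsL l).testBit i = true) :
    ∃ p ∈ l, p.1 = i := by
  induction l with
  | nil => simp [ptsL] at h
  | cons p l ih =>
    have e : ptsL (p :: l) = pt p.1 ||| ptsL l := rfl
    rw [e, Nat.testBit_or, Bool.or_eq_true, testBit_pt, decide_eq_true_eq] at h
    rcases h with h | h
    · exact ⟨p, List.mem_cons_self, h⟩
    · obtain ⟨q, hq, e⟩ := ih h
      exact ⟨q, List.mem_cons_of_mem _ hq, e⟩

/-- the words send `0` to the points, and the union of their orbits has at least `a` points -/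
noncomputable def covB (L n l : Nat) (T : List Net) (W : List (List Nat)) (sch : List Nat)
    (r : List (Nat × List Nat)) (a : Nat) : Bool :=
  band (lall (ltB L) W) (band (lall (fun p => band (ltB L p.2) (mem1 T p.2 (pt p.1) (nat_lit 0))) r)
    (frc (grow T W sch (ptsL r)) fun S =>
      band (Nat.beq (Nat.shiftRight S n) (nat_lit 0)) (Nat.ble a (popc l S))))

theorem KAct.cert (h : KAct ι z φ n k) {s : ℕ → P} {L l : ℕ} {T : List Net} (hr : Rep s L n T φ)
    (hN : n ≤ 2 ^ l) {w : G} {D : Set G} (hD : Bi ι D) {W : List (List ℕ)}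
    (hW : ∀ u ∈ W, ev s u ∈ stabQ ι w) {sch : List ℕ} {r : List (ℕ × List ℕ)} {a : ℕ}
    (hR : ∀ p ∈ r, w * ι (ev s p.2) * z ∈ D) (hc : covB L n l T W sch r a = true) :
    ∃ A : Set ℕ, Cov ι z φ w A D ∧ (∀ i ∈ A, i < n) ∧ a ≤ A.ncard := by
  simp only [covB, band_eq, lall_eq, frc_eq] at hc
  obtain ⟨c1, c2, c3, c4⟩ := hc
  have h0 : 0 < n := lt_of_le_of_lt (Nat.zero_le _) (h.lt 1)
  refine ⟨bset n (grow T W sch (ptsL r)), h.cov hD fun i hi => ?_, fun i hi => hi.1, ?_⟩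
  · obtain ⟨p, hp, g, ⟨g', hg, rfl⟩, e⟩ := grow_orbit hr.ok (K := (stabQ ι w).map φ)
      (hr.mem_map (fun u hu => ltB_spec (c1 u hu)) (by
        rw [genW, Subgroup.closure_le]; rintro _ ⟨u, hu, rfl⟩; exact hW u hu)) sch _ i hi
    obtain ⟨q, hq, rfl⟩ := mem_ptsL hp.2
    refine ⟨_, hR q hq, g', hg, ?_⟩
    rw [hr.ev_eq (ltB_spec (c2 q hq).1), mem1_pt hr.ok h0 (c2 q hq).2, e]
  · have h1 : grow T W sch (ptsL r) < 2 ^ n := by
      have : grow T W sch (ptsL r) >>> n = 0 := Nat.eq_of_beq_eq_true c3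
      rw [Nat.shiftRight_eq_div_pow] at this
      exact (Nat.div_eq_zero_iff_lt (by positivity)).mp this
    rw [ncard_bset hN h1]
    exact Nat.le_of_ble_eq_true c4

theorem KAct.all [Finite P] (h : KAct ι z φ n k) {w : G} {D : Set G} {A : Set ℕ}
    (h1 : Cov ι z φ w A D) (hA : ∀ i ∈ A, i < n) (ha : n ≤ A.ncard) (hD : Bi ι D) :
    ∀ g ∈ Dc ι w, g * z ∈ D := by
  rintro _ ⟨a, b, rfl⟩
  have e : A = Set.Iio n := Set.eq_of_subset_of_ncard_le hA (by simpa using ha) (Set.finite_Iio n)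
  have := hD _ (h1 b (e ▸ h.lt b)) a 1
  simpa [mul_assoc] using this

end Cfsg.Agent.Comp
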