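import Cfsg.Agent.Comp.OutKit

/-!
Automorphisms that are trivial on a subgroup.
-/

set_option autoImplicit false

namespace Cfsg.Agent.Comp
open MulAction Cfsg

variable {G H : Type*} [Group G] [Group H]

theorem hom_ext {s : ℕ → G} {L : ℕ} (hs : gen s L = ⊤) {E : List (List ℕ × List ℕ)} {K : List ℕ}
    (hE : ∀ e ∈ E, ev s e.1 = ev s e.2) (hK : ∀ x < L, x ∈ knownL K E) {α β : G →* H}
    (h : ∀ x ∈ K, α (s x) = β (s x)) : α = β := by
  have h1 : gen s L ≤ α.eqLocus β := gen_le.mpr fun x hx => mem_of_knownL hE h x (hK x hx)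
  ext g
  exact h1 (hs ▸ Subgroup.mem_top g)

theorem out_hom [Finite H] (ι : G →* H) (hι : Function.Injective ι) {s : ℕ → G}
    {x y z p m r : ℕ} (hp : p.Prime) (hG : ¬ p * p ∣ Nat.card H) (hx : ev s [x] ≠ ev s [])
    (hC0 : ∀ c, c * ι (s x) = ι (s x) * c → ∃ g, c = ι g)
    (hC : ∀ c, Cm s [[x]] c → c ∈ genW s [[x]])
    (hD0 : ∀ c, c * ι (s y) = ι (s y) * c → ∃ g, c = ι g) {Cl : List (List ℕ)}
    (hD : ∀ c, Cm s [wpow [y] 1] c → ∃ w ∈ Cl, c = ev s w) {Rs : List (List ℕ)}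
    (hE : ∀ a ∈ outE x y z p m 1 r Rs, ev s a.1 = ev s a.2) {I : List ℕ}
    {l : List (ℕ × List ℕ)} (hN : outN p m I Cl ([(1, [])] ++ l)) (hO : Obs s x y z Rs l)
    {L : ℕ} (hs : gen s L = ⊤) {E : List (List ℕ × List ℕ)} (hE' : ∀ e ∈ E, ev s e.1 = ev s e.2)
    (hK : ∀ a < L, a ∈ knownL [x, y, z] E) (ψ : MulAut H) :
    ∃ g : H, ∀ a, (MulAut.conj g * ψ) (ι a) = ι a := by
  have : Fact p.Prime := ⟨hp⟩
  simp only [outE, List.forall_mem_cons, ev_wpow, ev_append, ev_cons, ev_nil, mul_one,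
    List.forall_mem_map, pow_one] at hE hx
  obtain ⟨h1, h2, h3, h4⟩ := hE
  obtain ⟨g, e1, i, hi, e2⟩ := aut_norm hp
    ((orderOf_injective ι hι _).trans (orderOf_eq_prime h1 hx)) hG (c := ι (s y)) (m := m)
    (fun g hg => by
      obtain ⟨g, rfl⟩ := hC0 g hg
      have : genW s [[x]] ≤ Subgroup.zpowers (s x) := genW_le.mpr (by simp)
      rw [← MonoidHom.map_zpowers]
      exact Subgroup.mem_map_of_mem ι (this (hC g (by
        simpa [Cm, ← map_mul, hι.eq_iff] using hg))))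
    (by rw [← map_pow, ← mul_inv_eq_of_eq_mul h2]; simp) hN.1 hN.2.1 ψ
  set α := MulAut.conj g * ψ
  have h5 := congrArg ι (mul_inv_eq_of_eq_mul h3)
  simp only [map_mul, map_pow, map_inv] at h5
  have h6 := congrArg α h5
  simp only [map_mul, map_pow, map_inv, e1] at h6
  have h7 := Leech.comm_of_conj h5 h6
  obtain ⟨c, e0⟩ := hD0 _ h7
  obtain ⟨w, hw, e3⟩ := hD c (by
    rw [e0] at h7; simpa [Cm, ev_wpow, ← map_mul, hι.eq_iff] using h7)
  have e4 : α (ι (s z)) = ι (s z) * ι (ev s w) := by rw [← e3, ← e0]; simp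
  rcases List.mem_append.mp (hN.2.2 i hi w hw) with h8 | h8
  · obtain ⟨rfl, rfl⟩ := Prod.mk.inj (List.mem_singleton.mp h8)
    have : α.toMonoidHom.comp ι = ι := hom_ext hs hE' hK (by simp [e1, e2, e4])
    exact ⟨g, fun a => DFunLike.congr_fun this a⟩
  · obtain ⟨v, hv, h9⟩ := hO _ h8
    refine absurd (hι ?_) h9
    have := congrArg (α.toMonoidHom.comp ι) (h4 v hv)
    rw [map_one, ev_subst, map_ev] at this
    rw [map_one, ev_subst, map_ev, ← this]
    congr 1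
    funext k
    rcases k with _ | _ | _ | k <;> simp [ev_wpow, e1, e2, e4]

theorem Rep.eqs_of_inj {s : ℕ → G} {L n : ℕ} {T : List Net} {φ : G →* Equiv.Perm ℕ}
    (h : Rep s L n T φ) (hinj : Function.Injective φ) {E : List (List ℕ × List ℕ)}
    (hL : (E.all fun e => ltB L e.1 && ltB L e.2) = true)
    (hE : ∀ e ∈ E, ev (sig T) e.1 = ev (sig T) e.2) : ∀ e ∈ E, ev s e.1 = ev s e.2 :=
  fun e he => hinj (by
    have := List.all_eq_true.mp hL e he
    rw [Bool.and_eq_true] at this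
    rw [h.ev_eq (ltB_spec this.1), h.ev_eq (ltB_spec this.2), hE e he])

/-- the first step of a centraliser computation -/
theorem Ctx.first {s : ℕ → G} {L n B : ℕ} {T : List Net} {φ : G →* Equiv.Perm ℕ} {Is : List ℕ}
    {gs Wt Vt : List (List ℕ)} (X : Ctx s L n B T φ Is gs Wt Vt) {ds : Ds} {fx : List (List ℕ)}
    {pat : List (ℕ × List ℕ)} {b : ℕ} {bad : List ℕ} {W V : List (List ℕ)} {sc sc' : List ℕ}
    (h1 : stepB L n B T Is gs Wt Vt [] ds fx pat b [b] bad W V sc sc' = true)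
    (hbad : No s φ gs [] b bad) {c : G} (hc : Cm s gs c) :
    ∃ g ∈ genW s Wt, Cm s gs (g⁻¹ * c) ∧ φ (g⁻¹ * c) b = b := by
  obtain ⟨b0, hb, g, hg, h⟩ := step_core X h1 hbad (c := c) ⟨hc, nofun⟩
  rw [List.mem_singleton.mp hb] at h
  exact ⟨g, hg, h.1, h.2 (b, b) (by simp)⟩

end Cfsg.Agent.Comp
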