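import Cfsg.Agent.Comp.Mat3

/-!
Large matrices over a prime field: the setting without computation, and single entries.
-/

set_option autoImplicit false

namespace Cfsg.Agent.Comp
open Matrix

theorem enum_fin {n : ℕ} (h : 0 < n) : Enum n (Fin.val : Fin n → ℕ) :=
  ⟨h, fun j => j.2, fun _ _ e => Fin.ext e, fun k hk => ⟨⟨k, hk⟩, rfl⟩⟩

theorem bnd_of_cd {V : Type*} [AddCommMonoid V] {f A : ℕ} {bs : List V} {u : ℕ} {x : V}
    (h : Cd f A bs u x) (hA : A < 2 ^ f) : bnd f A bs.length u = true := by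
  induction h with
  | nil => rfl
  | @cons b bs d v x h1 _ ih =>
    have h2 : d < 2 ^ f := lt_of_le_of_lt h1 hA
    rw [List.length_cons, bnd, Nat.add_mul_mod_self_left, Nat.mod_eq_of_lt h2,
      Nat.add_mul_div_left _ _ (by positivity), Nat.div_eq_of_lt h2, zero_add, ih]
    simpa using h1

variable {K : Type*} [CommRing K] {ι : Type*} [Fintype ι] [DecidableEq ι]

theorem Enum.msP {p f m n : ℕ} {I : List ℕ} {en : ι → ℕ} (h : Enum n en) (hp : (p : K) = 0)
    (hn : 1 < p ∧ m = 2 ^ f - 1 ∧ p - 1 < 2 ^ f ∧ n * ((p - 1) * (p - 1)) < 2 ^ f ∧ I = idr f n) :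
    MS p f m n I I I (sbs n n en (1 : K)) en 1 := by
  obtain ⟨h1, h2, h3, h4, h5⟩ := hn
  have hl : (sbs n n en (1 : K)).length = n := by simp [sbs]
  have hI : I.length = n := by
    rw [h5, ← hl]; exact (cd_idr f _).length_eq.symm
  refine ⟨hp, ⟨h1, h2, h.1, h3, hl.symm ▸ h4, hl.symm ▸ h5⟩, ?_, fun j => ⟨?_, ?_, ?_⟩, ?_⟩
  · have := cd_idr f (sbs n n en (1 : K))
    rw [hl, ← h5] at this
    refine this.imp fun b r e => ?_
    have e' := e.mono (show 1 ≤ p - 1 by omega)
    exact ⟨bnd_of_cd e' h3, by rw [one_smul, ← e'.eq_dec h3]⟩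
  · rw [hl]; exact h.2.1 j
  · funext i
    have := h.2.1 j
    rw [sbs_getD this, Pi.single_apply]
    by_cases c : i = j
    · simp [c]
    · rw [if_neg fun e => c (h.2.2.1 _ _ e).symm, if_neg (by omega), if_neg c]
  · have := h.2.1 j
    rw [List.getD_eq_getElem _ _ (by omega)]
    exact List.getElem_mem _
  · intro k hk
    exact Or.inl (h.2.2.2 k (hl ▸ hk))

/-- an entry of the matrix of a word -/
theorem MS.entry {p f m n : ℕ} {I C Ω : List ℕ} {bs : List (ι → K)} {en : ι → ℕ} {ω : K}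
    (h : MS p f m n I C Ω bs en ω) (hs : Std n n bs en ω) (hn : ∀ i, en i < n) {T : List (List ℕ)}
    (hT : MOK p f bs en T) (w : List ℕ) (i j : ι) :
    ev (mat f bs en T) w i j = (dig f (runM p f m T w (I.getD (en j) 0)) (en i) : K) := by
  have h1 := congrFun ((MS.cd_runM hT w (h.unit j)).eq_dec (Nat.sub_lt (by positivity) one_pos)) i
  have e3 := congrFun (congrFun (hs.matOf_eq f
    (List.replicate n (runM p f (2 ^ f - 1) T w (I.getD (en j) 0)))) i) i
  simp only [matOf, fastMat, Matrix.of_apply, List.getD_replicate _ (hn i)] at e3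
  rw [e3, if_neg (by omega), add_zero] at h1
  rw [h.num.2.1, ← h1]
  simp [Matrix.mulVec_single_one]

theorem mat_out {f : ℕ} {bs : List (ι → K)} {en : ι → ℕ} {T : List (List ℕ)} {x : ℕ}
    (h : T.length ≤ x) : mat f bs en T x = 0 := by
  rw [mat, List.getD_eq_default _ _ h]
  ext i j; simp [matOf, dec_zero]

end Cfsg.Agent.Comp
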