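import Cfsg.Agent.Comp.MatP

/-!
Fast products of large matrices over a prime field: all columns are packed into one number.
-/

set_option autoImplicit false

namespace Cfsg.Agent.Comp
open Matrix

/-- the number with the given digits -/
def pack (F : ℕ) : List ℕ → ℕ
  | [] => 0
  | r :: l => r + 2 ^ F * pack F l

/-- `m` digits `a` -/
def rpt (F a : ℕ) : ℕ → ℕ
  | 0 => 0
  | m + 1 => a + 2 ^ F * rpt F a m

theorem land_split {F r a X A : ℕ} (hr : r < 2 ^ F) (ha : a < 2 ^ F) :
    (r + 2 ^ F * X) &&& (a + 2 ^ F * A) = (r &&& a) + 2 ^ F * (X &&& A) := by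
  have h3 : r &&& a < 2 ^ F := lt_of_le_of_lt Nat.and_le_left hr
  apply Nat.eq_of_testBit_eq
  intro i
  rw [Nat.testBit_and, add_comm r, add_comm a, add_comm (r &&& a), Nat.testBit_two_pow_mul_add _ hr,
    Nat.testBit_two_pow_mul_add _ ha, Nat.testBit_two_pow_mul_add _ h3]
  split_ifs <;> simp

theorem pack_add {α : Type*} (F : ℕ) (l : List α) (u v : α → ℕ) :
    pack F (l.map fun r => u r + v r) = pack F (l.map u) + pack F (l.map v) := by
  induction l with
  | nil => rfl
  | cons r l ih => simp only [List.map_cons, pack, ih]; ring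

theorem pack_mul {α : Type*} (F c : ℕ) (l : List α) (u : α → ℕ) :
    pack F (l.map fun r => c * u r) = c * pack F (l.map u) := by
  induction l with
  | nil => rfl
  | cons r l ih => simp only [List.map_cons, pack, ih]; ring

theorem pack_land {F a : ℕ} (ha : a < 2 ^ F) {l : List ℕ} (hl : ∀ r ∈ l, r < 2 ^ F) :
    pack F l &&& rpt F a l.length = pack F (l.map (· &&& a)) := by
  induction l with
  | nil => simp [pack]
  | cons r l ih =>
    rw [List.forall_mem_cons] at hl
    rw [List.length_cons, pack, rpt, land_split hl.1 ha, ih hl.2]; rfl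

theorem pack_inj {F : ℕ} {l l' : List ℕ} (hl : ∀ r ∈ l, r < 2 ^ F) (hl' : ∀ r ∈ l', r < 2 ^ F)
    (e : l.length = l'.length) (h : pack F l = pack F l') : l = l' := by
  induction l generalizing l' with
  | nil => exact (List.length_eq_zero_iff.mp e.symm).symm
  | cons r l ih =>
    obtain _ | ⟨r', l'⟩ := l'
    · simp at e
    rw [List.forall_mem_cons] at hl hl'
    have h1 := congrArg (· % 2 ^ F) h
    simp only [pack, Nat.add_mul_mod_self_left, Nat.mod_eq_of_lt hl.1, Nat.mod_eq_of_lt hl'.1] at h1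
    subst h1
    rw [ih hl.2 hl'.2 (by simpa using e)
      (Nat.eq_of_mul_eq_mul_left (by positivity) (Nat.add_left_cancel h))]

theorem land_rpt {F a : ℕ} (ha : a < 2 ^ F) (m q : ℕ) :
    ∃ l : List ℕ, l.length = m ∧ q &&& rpt F a m = pack F (l.map (· &&& a)) := by
  induction m generalizing q with
  | zero => exact ⟨[], rfl, by simp [rpt, pack]⟩
  | succ m ih =>
    obtain ⟨l, h1, h2⟩ := ih (q / 2 ^ F)
    refine ⟨q % 2 ^ F :: l, by simp [h1], ?_⟩
    conv_lhs => rw [← Nat.mod_add_div q (2 ^ F)]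
    rw [rpt, land_split (Nat.mod_lt _ (by positivity)) ha, h2]; rfl

section cd
variable {V : Type*} [AddCommMonoid V]

theorem Cd.lt {f A : ℕ} {bs : List V} {u : ℕ} {x : V} (h : Cd f A bs u x) (hA : A < 2 ^ f) :
    u < 2 ^ (f * bs.length) := by
  induction h with
  | nil => simp
  | @cons b bs d v x h1 _ ih =>
    rw [List.length_cons, Nat.mul_succ, pow_add, mul_comm (2 ^ (f * bs.length))]
    have : 2 ^ f * (v + 1) ≤ 2 ^ f * 2 ^ (f * bs.length) := Nat.mul_le_mul_left _ ih
    rw [mul_add] at this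
    omega

theorem cd_land {f a : ℕ} (ha : a < 2 ^ f) (bs : List V) (q : ℕ) :
    Cd f a bs (q &&& rpt f a bs.length) (dec f bs (q &&& rpt f a bs.length)) := by
  have : ∃ x, Cd f a bs (q &&& rpt f a bs.length) x := by
    induction bs generalizing q with
    | nil => exact ⟨0, by simpa [rpt] using Cd.nil⟩
    | cons b bs ih =>
      obtain ⟨x, hx⟩ := ih (q / 2 ^ f)
      refine ⟨_, Cd.cons' (d := q % 2 ^ f &&& a) Nat.and_le_right hx ?_ rfl⟩
      conv_lhs => rw [← Nat.mod_add_div q (2 ^ f)]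
      rw [List.length_cons, rpt, land_split (Nat.mod_lt _ (by positivity)) ha]
  obtain ⟨x, hx⟩ := this
  rw [← hx.eq_dec ha]; exact hx

theorem rpt_lt {f a : ℕ} (ha : a < 2 ^ f) (n : ℕ) : rpt f a n < 2 ^ (f * n) := by
  induction n with
  | zero => simp [rpt]
  | succ n ih =>
    rw [rpt, Nat.mul_succ, pow_add, mul_comm (2 ^ (f * n))]
    have : 2 ^ f * (rpt f a n + 1) ≤ 2 ^ f * 2 ^ (f * n) := Nat.mul_le_mul_left _ ih
    rw [mul_add] at this
    omega

theorem cd_red {f k B : ℕ} (hk : k ≤ f) (hB : B < 2 ^ f) (h1 : ∀ x : V, 2 ^ k • x = x) {bs : List V}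
    {v : ℕ} {x : V} (h : Cd f B bs v x) : ∃ u, v = (v &&& rpt f (2 ^ k - 1) bs.length) + 2 ^ k * u ∧
      Cd f (2 ^ k - 1 + B / 2 ^ k) bs ((v &&& rpt f (2 ^ k - 1) bs.length) + u) x := by
  have hp : 0 < 2 ^ k := by positivity
  have ha : 2 ^ k - 1 < 2 ^ f := lt_of_lt_of_le (Nat.sub_lt hp one_pos) (Nat.pow_le_pow_right two_pos hk)
  induction h with
  | nil => exact ⟨0, by simp, by simpa using Cd.nil⟩
  | @cons b bs d v x h2 _ ih =>
    obtain ⟨u, e1, e2⟩ := ih
    rw [List.length_cons, rpt, land_split (lt_of_le_of_lt h2 hB) ha, Nat.and_two_pow_sub_one_eq_mod]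
    refine ⟨d / 2 ^ k + 2 ^ f * u, ?_, Cd.cons' (d := d % 2 ^ k + d / 2 ^ k)
      (Nat.add_le_add (Nat.le_sub_one_of_lt (Nat.mod_lt _ hp)) (Nat.div_le_div_right h2)) e2
      (by ring) ?_⟩
    · have := Nat.mod_add_div d (2 ^ k)
      generalize v &&& rpt f (2 ^ k - 1) bs.length = w at *
      subst e1
      nth_rewrite 1 [← this]
      ring
    · conv_lhs => rw [← Nat.mod_add_div d (2 ^ k), add_nsmul, mul_nsmul, h1]
      rw [add_nsmul]

/-- the linear map without reduction -/
def app0 (f : ℕ) : List ℕ → ℕ → ℕ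
  | [], _ => 0
  | r :: rows, v => v % 2 ^ f * r + app0 f rows (v / 2 ^ f)

theorem cd_app0 {W : Type*} [AddCommMonoid W] {f A B : ℕ} (hA : A < 2 ^ f) (g : V →+ W)
    {bs : List V} {cs : List W} {rows : List ℕ}
    (hr : List.Forall₂ (fun b r => Cd f B cs r (g b)) bs rows) {v : ℕ} {x : V}
    (h : Cd f A bs v x) : Cd f (bs.length * (A * B)) cs (app0 f rows v) (g x) := by
  induction hr generalizing v x with
  | nil => cases h; rw [map_zero]; exact Cd.zero f _ cs
  | @cons b r bs rows h1 _ ih =>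
    obtain ⟨d, v', x', h3, h4, rfl, rfl⟩ := h.inv
    have h2 : d < 2 ^ f := lt_of_le_of_lt h3 hA
    rw [app0, Nat.add_mul_mod_self_left, Nat.mod_eq_of_lt h2,
      Nat.add_mul_div_left _ _ (by positivity), Nat.div_eq_of_lt h2, zero_add, map_add, map_nsmul]
    refine ((h1.smul d).add (ih h4)).mono ?_
    rw [List.length_cons, add_mul, one_mul, add_comm]
    exact Nat.add_le_add_left (Nat.mul_le_mul_right _ h3) _

end cd

/-- the linear map on all packed vectors -/
noncomputable def bigApp (f mc : Nat) (rows : List Nat) : Box :=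
  @List.rec Nat (fun _ => Box) (Box.mk fun _ => nat_lit 0) (fun r _ ih => Box.mk fun X =>
    frcN (Nat.land X mc) fun C => Nat.add (Nat.mul r C)
      (frcN (Nat.shiftRight (Nat.sub X C) f) ih.f)) rows

theorem bigApp_pack {F f : ℕ} (hf : f ≤ F) (rows : List ℕ) {l : List ℕ} (hl : ∀ r ∈ l, r < 2 ^ F) :
    (bigApp f (rpt F (2 ^ f - 1) l.length) rows).f (pack F l) = pack F (l.map (app0 f rows)) := by
  have hp : 0 < 2 ^ f := by positivity
  induction rows generalizing l with
  | nil =>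
    have := pack_mul F 0 l id
    simp only [zero_mul] at this
    exact this.symm
  | cons r rows ih =>
    have e : ∀ mc X, (bigApp f mc (r :: rows)).f X = frcN (X &&& mc) fun C =>
      r * C + frcN ((X - C) >>> f) (bigApp f mc rows).f := fun _ _ => rfl
    have e2 : pack F l = pack F (l.map (· % 2 ^ f)) + 2 ^ f * pack F (l.map (· / 2 ^ f)) := by
      rw [← pack_mul, ← pack_add]; simp [Nat.mod_add_div]
    have := ih (l := l.map (· / 2 ^ f)) (fun r hr => by
      obtain ⟨u, hu, rfl⟩ := List.mem_map.mp hr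
      exact lt_of_le_of_lt (Nat.div_le_self _ _) (hl u hu))
    rw [List.length_map, List.map_map] at this
    rw [e, frcN_eq, frcN_eq, pack_land (lt_of_lt_of_le (Nat.sub_lt hp one_pos)
      (Nat.pow_le_pow_right two_pos hf)) hl]
    simp only [Nat.and_two_pow_sub_one_eq_mod]
    rw [Nat.sub_eq_of_eq_add (e2.trans (add_comm _ _)), Nat.shiftRight_eq_div_pow,
      Nat.mul_div_cancel_left _ hp, this, ← pack_mul, ← pack_add]
    congr 1
    exact List.map_congr_left fun u _ => by simp [app0, mul_comm]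

/-- partial reduction of all digits -/
noncomputable def bigRed (k mr X : Nat) : Nat :=
  frcN (Nat.land X mr) fun L => Nat.add L (Nat.shiftRight (Nat.sub X L) k)

/-- one letter -/
noncomputable def bigStep (f k mc mr : Nat) (rows : List Nat) (X : Nat) : Nat :=
  frcN ((bigApp f mc rows).f X) fun X => frcN (bigRed k mr X) fun X => frcN (bigRed k mr X)
    (bigRed k mr)

/-- a word -/
noncomputable def bigRun (f k mc mr : Nat) (T : List (List Nat)) (w : List Nat) (X : Nat) : Nat :=
  @List.rec Nat (fun _ => Nat) X (fun a _ ih => frcN ih (bigStep f k mc mr (nth [] T a))) w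

/-- all digits agree modulo `p` -/
noncomputable def bigEq (p mq X Y : Nat) : Bool :=
  frc (Nat.add X (Nat.mul (Nat.pred p) Y)) fun D => frc (Nat.div D p) fun q =>
    band (Nat.beq (Nat.mul p q) D) (Nat.beq (Nat.land q mq) q)

/-- check of equations -/
noncomputable def bigEqs (p f k mc mr mq I : Nat) (T : List (List Nat))
    (E : List (List Nat × List Nat)) : Bool :=
  lall (fun e => frc (bigRun f k mc mr T e.1 I) fun X => frc (bigRun f k mc mr T e.2 I) fun Y =>
    bigEq p mq X Y) E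

/-- check of a matrix -/
noncomputable def bigRows (n ma : Nat) (rows : List Nat) : Bool :=
  band (Nat.beq rows.length n) (lall (fun r => Nat.beq (Nat.land r ma) r) rows)

section pk
variable {V : Type*} [AddCommGroup V]

/-- the packed vectors -/
def PK (f B : ℕ) (bs : List V) (X : ℕ) (xs : List V) : Prop :=
  ∃ l, X = pack (f * bs.length) l ∧ List.Forall₂ (Cd f B bs) l xs

theorem forall₂_lt {f B : ℕ} {bs : List V} {l : List ℕ} {xs : List V} (hB : B < 2 ^ f)
    (h : List.Forall₂ (Cd f B bs) l xs) : ∀ r ∈ l, r < 2 ^ (f * bs.length) := by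
  induction h with
  | nil => nofun
  | cons h1 _ ih => exact List.forall_mem_cons.mpr ⟨h1.lt hB, ih⟩

theorem PK.mono {f A B : ℕ} {bs : List V} {X : ℕ} {xs : List V} (h : PK f A bs X xs) (hAB : A ≤ B) :
    PK f B bs X xs := by
  obtain ⟨l, h1, h2⟩ := h
  exact ⟨l, h1, h2.imp fun _ _ e => e.mono hAB⟩

theorem PK.red {f k B : ℕ} (hk : k ≤ f) (hB : B < 2 ^ f) (h1 : ∀ x : V, 2 ^ k • x = x) {bs : List V}
    {X : ℕ} {xs : List V} (h : PK f B bs X xs) : PK f (2 ^ k - 1 + B / 2 ^ k) bs
      (bigRed k (rpt (f * bs.length) (rpt f (2 ^ k - 1) bs.length) xs.length) X) xs := by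
  obtain ⟨l, rfl, h2⟩ := h
  have hp : 0 < 2 ^ k := by positivity
  have ha : 2 ^ k - 1 < 2 ^ f := lt_of_lt_of_le (Nat.sub_lt hp one_pos) (Nat.pow_le_pow_right two_pos hk)
  set a := rpt f (2 ^ k - 1) bs.length
  have key : (∀ r ∈ l, r = (r &&& a) + 2 ^ k * ((r - (r &&& a)) / 2 ^ k)) ∧ List.Forall₂
      (Cd f (2 ^ k - 1 + B / 2 ^ k) bs) (l.map fun r => (r &&& a) + (r - (r &&& a)) / 2 ^ k) xs := by
    induction h2 with
    | nil => exact ⟨nofun, .nil⟩
    | @cons r x _ _ h3 _ ih =>
      obtain ⟨u, e1, e2⟩ := cd_red hk hB h1 h3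
      have : (r - (r &&& a)) / 2 ^ k = u := by
        rw [Nat.sub_eq_of_eq_add (e1.trans (add_comm _ _)), Nat.mul_div_cancel_left _ hp]
      exact ⟨List.forall_mem_cons.mpr ⟨this ▸ e1, ih.1⟩, .cons (by rw [← this] at e2; exact e2) ih.2⟩
  refine ⟨_, ?_, key.2⟩
  have e2 : pack (f * bs.length) l = pack (f * bs.length) (l.map (· &&& a)) +
      2 ^ k * pack (f * bs.length) (l.map fun r => (r - (r &&& a)) / 2 ^ k) := by
    rw [← pack_mul, ← pack_add]
    conv_lhs => rw [← List.map_id l]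
    congr 1
    exact List.map_congr_left key.1
  have e : ∀ mr X, bigRed k mr X = frcN (X &&& mr) fun L => L + (X - L) >>> k := fun _ _ => rfl
  rw [e, frcN_eq, ← h2.length_eq, pack_land (rpt_lt ha _) (forall₂_lt hB h2),
    Nat.sub_eq_of_eq_add (e2.trans (add_comm _ _)), Nat.shiftRight_eq_div_pow,
    Nat.mul_div_cancel_left _ hp, pack_add]

theorem PK.app {f A B : ℕ} (hA : A < 2 ^ f) (g : V →+ V) {bs : List V} (h0 : 0 < bs.length)
    {rows : List ℕ} (hr : List.Forall₂ (fun b r => Cd f B bs r (g b)) bs rows) {X : ℕ} {xs : List V}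
    (h : PK f A bs X xs) : PK f (bs.length * (A * B)) bs
      ((bigApp f (rpt (f * bs.length) (2 ^ f - 1) xs.length) rows).f X) (xs.map g) := by
  obtain ⟨l, rfl, h2⟩ := h
  refine ⟨l.map (app0 f rows), ?_, ?_⟩
  · rw [← h2.length_eq, bigApp_pack (Nat.le_mul_of_pos_right _ h0) rows (forall₂_lt hA h2)]
  · rw [List.forall₂_map_left_iff, List.forall₂_map_right_iff]
    exact h2.imp fun _ _ e => cd_app0 hA g hr e

theorem PK.eq {p f B a : ℕ} (h0 : 0 < p) (hp : ∀ x : V, p • x = 0) (hB : B + (p - 1) * B < 2 ^ f)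
    (ha : p * a < 2 ^ f) {bs : List V} {X Y : ℕ} {xs ys : List V} (h : PK f B bs X xs)
    (h' : PK f B bs Y ys) (hl : xs.length = ys.length)
    (e : bigEq p (rpt (f * bs.length) (rpt f a bs.length) xs.length) X Y = true) : xs = ys := by
  obtain ⟨l, rfl, h2⟩ := h
  obtain ⟨l', rfl, h3⟩ := h'
  have ha' : a < 2 ^ f := lt_of_le_of_lt (Nat.le_mul_of_pos_left _ h0) ha
  simp only [bigEq, frc_eq, band_eq] at e
  obtain ⟨e1, e2⟩ := e
  generalize Nat.div _ p = q at e1 e2
  obtain ⟨lq, h4, h5⟩ := land_rpt (rpt_lt ha' bs.length) xs.length q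
  have e3 : p * q = pack _ l + (p - 1) * pack _ l' := Nat.eq_of_beq_eq_true e1
  have e4 : q &&& _ = q := Nat.eq_of_beq_eq_true e2
  rw [← e4, h5, ← pack_mul] at e3
  clear e1 e2 e4 h5
  induction h2 generalizing l' ys lq with
  | nil => exact (List.length_eq_zero_iff.mp hl.symm).symm
  | @cons r x l xs h1 _ ih =>
    obtain _ | @⟨r', y, l', ys, h6, h7⟩ := h3
    · simp at hl
    obtain _ | ⟨u, lq⟩ := lq
    · simp at h4
    have c1 := (cd_land ha' bs u).smul p
    have c2 := h1.add (h6.smul (p - 1))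
    simp only [List.map_cons, pack] at e3
    have e5 : p * (u &&& rpt f a bs.length) = r + (p - 1) * r' := by
      have := congrArg (· % 2 ^ (f * bs.length)) (e3.trans (by ring :
        _ = r + (p - 1) * r' + 2 ^ (f * bs.length) * (pack _ l + (p - 1) * pack _ l')))
      simpa only [Nat.add_mul_mod_self_left, Nat.mod_eq_of_lt (c1.lt ha),
        Nat.mod_eq_of_lt (c2.lt hB)] using this
    rw [e5, hp] at c1
    have e6 : x + (p - 1) • y = 0 := (c2.eq_dec hB).trans (c1.eq_dec ha).symm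
    have e7 : y + (p - 1) • y = 0 := by
      rw [← hp y]; nth_rewrite 2 [← Nat.sub_add_cancel h0]; rw [succ_nsmul, add_comm]
    rw [add_right_cancel (e6.trans e7.symm), @ih ys (by simpa using hl) l' h7 lq (by simpa using h4)
      (Nat.eq_of_mul_eq_mul_left (show 0 < 2 ^ (f * bs.length) by positivity) (by
        rw [e5] at e3; nlinarith))]

end pk

variable {K : Type*} [CommRing K] {ι : Type*} [Fintype ι] [DecidableEq ι]

/-- the numerical conditions -/
def BNum (p f k n t a B mc mr mq ma I : ℕ) : Prop :=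
  0 < p ∧ 0 < n ∧ k ≤ f ∧ 2 ^ k % p = 1 % p ∧ 1 ≤ B ∧ t < 2 ^ f ∧ B + (p - 1) * B < 2 ^ f ∧
    p * a < 2 ^ f ∧ n * (B * t) < 2 ^ f ∧
    2 ^ k - 1 + n * (B * t) / 2 ^ k < 2 ^ f ∧
    2 ^ k - 1 + (2 ^ k - 1 + n * (B * t) / 2 ^ k) / 2 ^ k < 2 ^ f ∧
    2 ^ k - 1 + (2 ^ k - 1 + (2 ^ k - 1 + n * (B * t) / 2 ^ k) / 2 ^ k) / 2 ^ k ≤ B ∧
    mc = rpt (f * n) (2 ^ f - 1) n ∧ mr = rpt (f * n) (rpt f (2 ^ k - 1) n) n ∧
    mq = rpt (f * n) (rpt f a n) n ∧ ma = rpt f t n ∧ I = pack (f * n) (idr f n)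

instance (p f k n t a B mc mr mq ma I : ℕ) : Decidable (BNum p f k n t a B mc mr mq ma I) := by
  unfold BNum; infer_instance

/-- the lists of the table act like their matrices -/
def BOK (f t n : ℕ) (en : ι → ℕ) (K : Type*) [CommRing K] (T : List (List ℕ)) : Prop :=
  ∀ rows ∈ T, List.Forall₂ (fun b r => Cd f t (sbs n n en (1 : K)) r
    (matOf f (sbs n n en (1 : K)) en rows *ᵥ b)) (sbs n n en (1 : K)) rows

theorem sbs_single {n : ℕ} {en : ι → ℕ} (h : Enum n en) (j : ι) :
    (sbs n n en (1 : K)).getD (en j) 0 = Pi.single j 1 := by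
  funext i
  have := h.2.1 j
  rw [sbs_getD this, Pi.single_apply]
  by_cases c : i = j
  · simp [c]
  · rw [if_neg fun e => c (h.2.2.1 _ _ e).symm, if_neg (by omega), if_neg c]

variable {p f k n t a B mc mr mq ma I : ℕ} {en : ι → ℕ}

theorem BNum.ok (h : BNum p f k n t a B mc mr mq ma I) (he : Enum n en) {T : List (List ℕ)}
    (hT : lall (bigRows n ma) T = true) : BOK f t n en K T := fun rows hr => by
  have hl : (sbs n n en (1 : K)).length = n := by simp [sbs]
  have := (lall_eq _ _).mp hT rows hr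
  simp only [bigRows, band_eq, lall_eq] at this
  have h1 := Nat.eq_of_beq_eq_true this.1
  rw [List.forall₂_iff_get]
  refine ⟨hl.trans h1.symm, fun i hi hi' => ?_⟩
  obtain ⟨j, rfl⟩ := he.2.2.2 i (hl ▸ hi)
  have h2 : _ &&& ma = _ := Nat.eq_of_beq_eq_true (this.2 _ (List.get_mem rows ⟨_, hi'⟩))
  have h3 := cd_land h.2.2.2.2.2.1 (sbs n n en (1 : K)) (rows.get ⟨_, hi'⟩)
  rw [hl, ← h.2.2.2.2.2.2.2.2.2.2.2.2.2.2.2.1, h2] at h3
  have e : (sbs n n en (1 : K)).get ⟨_, hi⟩ = Pi.single j 1 := by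
    rw [← sbs_single he, List.getD_eq_getElem _ _ hi]; rfl
  rw [e, Matrix.mulVec_single_one]
  convert h3
  funext i
  simp [matOf, List.getElem?_eq_getElem hi']

theorem BNum.run (h : BNum p f k n t a B mc mr mq ma I) (hp : (p : K) = 0)
    {T : List (List ℕ)} (hT : BOK f t n en K T) (w : List ℕ) :
    PK f B (sbs n n en (1 : K)) (bigRun f k mc mr T w I)
      ((sbs n n en (1 : K)).map (ev (mat f (sbs n n en (1 : K)) en T) w *ᵥ ·)) := by
  obtain ⟨h0, hn, hk, h1, h2, h3, h4, h5, h6, h7, h8, h9, rfl, rfl, -, -, rfl⟩ := h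
  set bs := sbs n n en (1 : K)
  have hl : bs.length = n := by simp [bs, sbs]
  have h2k : ∀ x : ι → K, 2 ^ k • x = x := fun x => by
    have : ((2 ^ k : ℕ) : K) = (1 : ℕ) := by
      rw [← Nat.mod_add_div (2 ^ k) p, ← Nat.mod_add_div 1 p, h1]; simp [hp]
    rw [← Nat.cast_smul_eq_nsmul K, this]; simp
  induction w with
  | nil =>
    refine ⟨idr f n, by rw [hl]; rfl, ?_⟩
    simp only [ev_nil, Matrix.one_mulVec, List.map_id']
    have := cd_idr f bs
    rw [hl] at this
    exact List.Forall₂.flip (this.imp fun _ _ e => Cd.mono e h2)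
  | cons x w ih =>
    have e : ∀ mc mr I, bigRun f k mc mr T (x :: w) I =
      frcN (bigRun f k mc mr T w I) (bigStep f k mc mr (nth [] T x)) := fun _ _ _ => rfl
    have hB : B < 2 ^ f := by omega
    rw [e, frcN_eq, bigStep, frcN_eq, frcN_eq, frcN_eq]
    generalize bigRun f k _ _ T w _ = X at ih
    have g : PK f (n * (B * t)) bs ((bigApp f (rpt (f * n) (2 ^ f - 1) n) (nth [] T x)).f
        X) (bs.map (ev (mat f bs en T) (x :: w) *ᵥ ·)) := by
      rcases nth_mem [] T x with e | e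
      · have : mat f bs en T x = 0 := by
          rw [mat, ← nth_eq, e]; ext i j; simp [matOf, dec_zero]
        rw [e, ev_cons, this, zero_mul]
        refine ⟨bs.map fun _ => 0, ?_, ?_⟩
        · have := pack_mul (f * bs.length) 0 bs fun _ => 0
          simp only [zero_mul] at this
          exact this.symm
        · rw [List.forall₂_map_left_iff, List.forall₂_map_right_iff, List.forall₂_same]
          intro _ _
          rw [Matrix.zero_mulVec]; exact Cd.zero _ _ _
      · have := PK.app hB (Matrix.mulVecLin (mat f bs en T x)).toAddMonoidHom (hl ▸ hn)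
          (by rw [mat, ← nth_eq]; exact hT _ e) ih
        rw [List.length_map, hl, List.map_map] at this
        convert this using 2
        funext v
        simp [ev_cons]
    have r1 := g.red hk h6 h2k
    have r2 := r1.red hk h7 h2k
    have r3 := r2.red hk h8 h2k
    rw [List.length_map, hl] at r3
    exact r3.mono h9

theorem BNum.eqs (h : BNum p f k n t a B mc mr mq ma I) (he : Enum n en) (hp : (p : K) = 0)
    {T : List (List ℕ)} (hT : BOK f t n en K T) {E : List (List ℕ × List ℕ)}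
    (hE : bigEqs p f k mc mr mq I T E = true) : ∀ e ∈ E,
      ev (mat f (sbs n n en (1 : K)) en T) e.1 = ev (mat f (sbs n n en (1 : K)) en T) e.2 := by
  intro e hx
  have hl : (sbs n n en (1 : K)).length = n := by simp [sbs]
  simp only [bigEqs, lall_eq, frc_eq] at hE
  have := PK.eq h.1 (fun x => by rw [← Nat.cast_smul_eq_nsmul K, hp, zero_smul]) h.2.2.2.2.2.2.1
    h.2.2.2.2.2.2.2.1 (h.run hp hT e.1) (h.run hp hT e.2) (by simp) (by
      rw [List.length_map, hl, ← h.2.2.2.2.2.2.2.2.2.2.2.2.2.2.1]; exact hE e hx)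
  ext i j
  have h1 := congrFun (List.map_inj_left.mp this (Pi.single j 1) (by
    rw [← sbs_single he, List.getD_eq_getElem _ _ (hl.symm ▸ he.2.1 j)]
    exact List.getElem_mem _)) i
  simpa [Matrix.mulVec_single_one] using h1

theorem BNum.sat (h : BNum p f k n t a B mc mr mq ma I) (he : Enum n en) (hp : (p : K) = 0)
    {T : List (List ℕ)} (hT : BOK f t n en K T) {R : List (List ℕ)}
    (hE : bigEqs p f k mc mr mq I T (R.map fun w => (w, [])) = true) :
    Sat (mat f (sbs n n en (1 : K)) en T) R := fun w hw =>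
  h.eqs he hp hT hE (w, []) (List.mem_map_of_mem (f := fun w => (w, ([] : List ℕ))) hw)

end Cfsg.Agent.Comp
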