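import Cfsg.Agent.Comp.OutKit

/-!
Subgroups given by words.
-/

set_option autoImplicit false

namespace Cfsg.Agent.Comp

variable {G : Type*} [Group G]

theorem Rep.gen_le_stab {s : ℕ → G} {L n : ℕ} {T : List Net} {φ : G →* Equiv.Perm ℕ}
    (h : Rep s L n T φ) {H : Subgroup G} {b : ℕ} (hH : ∀ g, g ∈ H ↔ φ g b = b) {tw : List (List ℕ)}
    (hb : band (Nat.blt b n) (lall (fun w => band (ltB L w) (mem1 T w (pt b) b)) tw) = true) :
    gen (fun x => ev s (tw.getD x [])) tw.length ≤ H := by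
  simp only [band_eq, lall_eq, Nat.blt_eq] at hb
  rw [gen_subst]
  exact genW_le.mpr fun w hw => (hH _).mpr (by
    rw [h.ev_eq (ltB_spec (hb.2 w hw).1), mem1_pt h.ok hb.1 (hb.2 w hw).2])

theorem exists_half {H N : Subgroup G} (h : N ≤ H) {Q : Type*} [Group Q] (e : Q ≃* N) {m : ℕ}
    (hN : Nat.card Q = m) (hH : Nat.card H = 2 * m) (hm : 0 < m) :
    ∃ K : Subgroup H, K.Normal ∧ K.index = 2 ∧ Nonempty (K ≃* Q) := by
  have e2 := (Subgroup.subgroupOfEquivOfLe h).trans e.symm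
  have h2 := index_eq_of_card hH ((Nat.card_congr e2.toEquiv).trans hN) hm
  exact ⟨_, Subgroup.normal_of_index_eq_two h2, h2, ⟨e2⟩⟩

end Cfsg.Agent.Comp
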